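import Cfsg.Agent.Characters.Brauer
import Cfsg.Agent.Blocks.PPart
import Cfsg.Agent.Blocks.PrincipalConst
import Cfsg.Agent.Lib.NilpotentCoprime
import Cfsg.Agent.S0925

/-!
# The generalized character of a stable function on an abelian Sylow subgroup (helper603, for S4791 + S4927)

`P` an abelian Sylow `p`-subgroup, `θ : P → ℂ` a generalized character stable under `N_G(P)`.

* `hat P θ g` : the value of `θ` at the elements of `P` conjugate to the `p`-part of `g`; `hat_eq`.
* `isGeneralizedCharacter_hat` : it is a generalized character (Brauer's characterization).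
* `blockPart_hat` : its part in the principal block agrees with `θ` on `P`.
-/

set_option autoImplicit false

set_option linter.unusedSectionVars false

open scoped ComplexConjugate

namespace Cfsg.Agent.H603.AP

open Cfsg
open Cfsg.Agent.Characters

universe u v

/-! ### nilpotent groups -/

theorem exists_prod_nil {E : Type u} [Group E] [Finite E] [Group.IsNilpotent E] (p : ℕ)
    [hp : Fact p.Prime] : ∃ A B : Subgroup E, IsPGroup p A ∧ ¬ p ∣ Nat.card B ∧
      (∀ (x : A) (y : B), Commute (x : E) (y : E)) ∧ ∃ f : E →* A, ∀ e : E, ∃ y : B, (f e : E) * y = e := by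
  let P : Sylow p E := default
  have hPn : (P : Subgroup E).Normal := inferInstance
  have hcop : Nat.Coprime (Nat.card (P : Subgroup E)) (P : Subgroup E).index := P.card_coprime_index
  obtain ⟨B, hB⟩ := Subgroup.exists_right_complement'_of_coprime hcop
  have hcard : Nat.card B = (P : Subgroup E).index := by
    have h1 := hB.symm.index_eq_card
    exact h1.symm
  have hpB : ¬ p ∣ Nat.card B := by
    rw [hcard]
    exact P.not_dvd_index
  have hcomm : ∀ (x : (P : Subgroup E)) (y : B), Commute (x : E) (y : E) := by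
    intro x y
    refine Cfsg.Agent.Lib.NilpotentCoprime.commute_of_coprime_orderOf ?_
    have h1 : orderOf (x : E) ∣ Nat.card (P : Subgroup E) := by
      rw [Subgroup.orderOf_coe]
      exact orderOf_dvd_natCard x
    have h2 : orderOf (y : E) ∣ Nat.card B := by
      rw [Subgroup.orderOf_coe]
      exact orderOf_dvd_natCard y
    rw [hcard] at h2
    exact Nat.Coprime.of_dvd h1 h2 hcop
  let e := MulEquiv.ofBijective (MonoidHom.noncommCoprod (P : Subgroup E).subtype B.subtype fun x y => hcomm x y) hB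
  refine ⟨P, B, P.2, hpB, hcomm, (MonoidHom.fst _ _).comp e.symm.toMonoidHom, fun z => ⟨(e.symm z).2, ?_⟩⟩
  exact e.apply_symm_apply z

theorem isNilpotent_elem {E : Type u} [Group E] [Finite E] {q : ℕ} (hq : q.Prime)
    (h : IsElementary q E) : Group.IsNilpotent E := by
  have : Fact q.Prime := ⟨hq⟩
  obtain ⟨x, hx, -, k, hk⟩ := h
  have hle : Subgroup.zpowers x ≤ Subgroup.center E := by
    rw [Subgroup.zpowers_le]
    exact hx
  have hn : (Subgroup.zpowers x).Normal := ⟨fun y hy g => by
    rw [Subgroup.mem_center_iff.1 (hle hy) g, mul_inv_cancel_right]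
    exact hy⟩
  have hpg : IsPGroup q (E ⧸ Subgroup.zpowers x) := by
    refine IsPGroup.of_card (n := k) ?_
    rw [← hk]
    rfl
  have hnil : Group.IsNilpotent (E ⧸ Subgroup.zpowers x) := hpg.isNilpotent
  exact Subgroup.isNilpotent_of_ker_le_center (QuotientGroup.mk' (Subgroup.zpowers x))
    (by rwa [QuotientGroup.ker_mk'])

/-! ### the function -/

variable {p : ℕ} [hp : Fact p.Prime] {G : Type u} [Group G] [Finite G]

/-- every `p`-subgroup has a conjugate in `P` -/
theorem exists_conj_le (P : Sylow p G) {Q : Subgroup G} (hQ : IsPGroup p Q) : ∃ c : G, ∀ x ∈ Q, c * x * c⁻¹ ∈ (P : Subgroup G) := by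
  obtain ⟨S, hS⟩ := hQ.exists_le_sylow
  obtain ⟨c, hc⟩ := MulAction.exists_smul_eq G S P
  refine ⟨c, fun x hx => ?_⟩
  have h1 : c * x * c⁻¹ ∈ ((c • S : Sylow p G) : Subgroup G) := by
    rw [Sylow.coe_subgroup_smul]
    exact (Subgroup.mem_smul_pointwise_iff_exists _ _ _).2 ⟨x, hS hx, rfl⟩
  rwa [hc] at h1

theorem isPGroup_zpowers {z : G} (hz : ∃ k : ℕ, orderOf z = p ^ k) : IsPGroup p (Subgroup.zpowers z) := by
  obtain ⟨k, hk⟩ := hz
  exact IsPGroup.of_card (n := k) (by rw [Nat.card_zpowers, hk])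

open scoped Classical in
/-- the value of `θ` at the conjugates in `P` of the `p`-part -/
noncomputable def hat (P : Sylow p G) (θ : P → ℂ) (g : G) : ℂ :=
  if h : ∃ x : P, ∃ z : G, IsPPart p g z ∧ IsConj z (x : G) then θ h.choose else 0

theorem hat_exists (P : Sylow p G) (g : G) : ∃ x : P, ∃ z : G, IsPPart p g z ∧ IsConj z (x : G) := by
  obtain ⟨z, hz⟩ := Blocks.PPart.exists_isPPart p g
  have h1 : ∃ k : ℕ, orderOf z = p ^ k := by
    obtain ⟨_, _, _, h, _⟩ := hz
    exact h
  obtain ⟨c, hc⟩ := exists_conj_le P (isPGroup_zpowers h1)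
  exact ⟨⟨c * z * c⁻¹, hc z (Subgroup.mem_zpowers z)⟩, z, hz, isConj_iff.2 ⟨c, rfl⟩⟩

/-- stability under the normalizer -/
def NInv {α : Type*} (P : Sylow p G) (θ : P → α) : Prop :=
  ∀ n ∈ Subgroup.normalizer ((P : Subgroup G) : Set G), ∀ x y : P, n * (x : G) * n⁻¹ = (y : G) → θ y = θ x

theorem eq_of_isConj {P : Sylow p G} (hab : ∀ x ∈ P, ∀ y ∈ P, x * y = y * x) {α : Type*} {θ : P → α} (hθ : NInv P θ)
    {x y : P} (h : IsConj (x : G) (y : G)) : θ y = θ x := by
  have hc : IsMulCommutative P := ⟨⟨fun a b => Subtype.ext (hab a a.2 b b.2)⟩⟩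
  obtain ⟨c, hc1⟩ := isConj_iff.1 h
  obtain ⟨n, hn, hn1⟩ := P.conj_eq_normalizer_conj_of_mem (x : G) c⁻¹ x.2 (by rw [inv_inv, hc1]; exact y.2)
  rw [inv_inv, hc1] at hn1
  exact hθ n⁻¹ (Subgroup.inv_mem _ hn) x y (by rw [hn1, inv_inv])

theorem hat_eq {P : Sylow p G} (hab : ∀ x ∈ P, ∀ y ∈ P, x * y = y * x) {θ : P → ℂ} (hθ : NInv P θ) {g z : G} {x : P}
    (hz : IsPPart p g z) (hx : IsConj z (x : G)) : hat P θ g = θ x := by
  have h : ∃ x : P, ∃ z : G, IsPPart p g z ∧ IsConj z (x : G) := ⟨x, z, hz, hx⟩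
  unfold hat
  rw [dif_pos h]
  obtain ⟨z', hz', hx'⟩ := h.choose_spec
  rw [Blocks.PPart.isPPart_unique hz' hz] at hx'
  exact eq_of_isConj hab hθ (hx.symm.trans hx')

theorem order_pow (P : Sylow p G) (x : P) : ∃ k : ℕ, orderOf (x : G) = p ^ k := by
  obtain ⟨k, hk⟩ := IsPGroup.iff_orderOf.1 P.2 x
  exact ⟨k, by rw [Subgroup.orderOf_coe, hk]⟩

theorem hat_self {P : Sylow p G} (hab : ∀ x ∈ P, ∀ y ∈ P, x * y = y * x) {θ : P → ℂ} (hθ : NInv P θ) (x : P) :
    hat P θ x = θ x :=
  hat_eq hab hθ (Blocks.PPart.isPPart_of_isPGroup (order_pow P x)) (IsConj.refl _)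

theorem hat_isClassFunction {P : Sylow p G} (hab : ∀ x ∈ P, ∀ y ∈ P, x * y = y * x) {θ : P → ℂ} (hθ : NInv P θ) :
    IsClassFunction G (hat P θ) := by
  intro g h
  obtain ⟨x, z, hz, hx⟩ := hat_exists P g
  rw [hat_eq hab hθ hz hx, hat_eq hab hθ (Blocks.PPart.isPPart_conj hz h) ((isConj_iff.2 ⟨h⁻¹, by group⟩ : IsConj (h * z * h⁻¹) z).trans hx)]

omit [Finite G] hp in
theorem isGeneralizedCharacter_comp' {H : Type v} [Group H] (f : H →* G) {χ : G → ℂ} (hχ : IsGeneralizedCharacter G χ) :
    IsGeneralizedCharacter H (fun x => χ (f x)) := by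
  obtain ⟨α, β, hα, hβ, rfl⟩ := hχ
  exact ⟨_, _, Core.isCharacter_comp f hα, Core.isCharacter_comp f hβ, rfl⟩

/-- **Brauer's characterization.** -/
theorem isGeneralizedCharacter_hat {P : Sylow p G} (hab : ∀ x ∈ P, ∀ y ∈ P, x * y = y * x) {θ : P → ℂ} (hθ : NInv P θ)
    (hg : IsGeneralizedCharacter P θ) : IsGeneralizedCharacter G (hat P θ) := by
  refine Brauer.brauer_characterization _ (hat_isClassFunction hab hθ) fun E q hq hE => ?_
  have hnil := isNilpotent_elem hq hE
  obtain ⟨A, B, hA, hB, hcomm, f, hf⟩ := exists_prod_nil (E := E) p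
  obtain ⟨c, hc⟩ := exists_conj_le P (hA.map E.subtype)
  have hc' : ∀ a : A, c * ((a : E) : G) * c⁻¹ ∈ P := fun a => hc _ (Subgroup.mem_map_of_mem E.subtype a.2)
  let r : E →* P := MonoidHom.mk' (fun x => ⟨c * ((f x : E) : G) * c⁻¹, hc' _⟩) fun x y => by
    apply Subtype.ext
    rw [map_mul]
    push_cast
    group
  have h1 : (fun x : E => hat P θ x) = fun x => θ (r x) := by
    funext x
    obtain ⟨y, hy⟩ := hf x
    have h2 : IsPPart p (x : G) ((f x : E) : G) := by
      refine Blocks.PPart.isPPart_coe ⟨y, hy, hcomm _ _, ?_, fun h => hB (h.trans ?_)⟩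
      · obtain ⟨k, hk⟩ := IsPGroup.iff_orderOf.1 hA (f x)
        exact ⟨k, by rw [Subgroup.orderOf_coe, hk]⟩
      · rw [Subgroup.orderOf_coe]
        exact orderOf_dvd_natCard _
    exact hat_eq hab hθ h2 (isConj_iff.2 ⟨c, rfl⟩)
  rw [h1]
  exact isGeneralizedCharacter_comp' r hg

/-! ### the principal block -/

section block

variable {M : Ideal AlgInt}

open scoped Classical in
/-- the block part as a sum -/
theorem blockPart_sum [Fintype G] [Fintype (IrrCharacter G)] (B : Set (IrrCharacter G)) (ϑ : G → ℂ) (g : G) :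
    blockPart B ϑ g = ∑ χ : IrrCharacter G, if χ ∈ B then classInner ϑ (χ : G → ℂ) * (χ : G → ℂ) g else 0 := by
  have h : ‹Fintype G› = Fintype.ofFinite G := Subsingleton.elim _ _
  rw [h]
  unfold blockPart
  rw [finsum_mem_eq_sum_of_inter_support_eq (t := Finset.univ.filter (· ∈ B)) _ (by
    ext χ
    simp)]
  rw [Finset.sum_filter]

theorem one_mem (hM : IsPModular p M) : (⟨fun _ => 1, Core.isIrr_one⟩ : IrrCharacter G) ∈ principalBlock M G := by
  have := Blocks.Local.isPrime_of_isPModular hM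
  intro g
  rw [sub_self]
  exact Blocks.Local.memLocalIdeal_zero

/-- the trivial character -/
theorem blockPart_one (hM : IsPModular p M) (c : ℂ) (g : G) :
    blockPart (principalBlock M G) (fun _ => c) g = c := by
  classical
  have := Fintype.ofFinite G
  have hfin : Finite (IrrCharacter G) := Core.finite_irr
  have := Fintype.ofFinite (IrrCharacter G)
  rw [blockPart_sum, Finset.sum_eq_single (⟨fun _ => 1, Core.isIrr_one⟩ : IrrCharacter G)]
  · rw [if_pos (one_mem hM), mul_one]
    have h1 : (fun _ : G => c) = c • (1 : G → ℂ) := by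
      funext g
      simp
    rw [h1, Core.classInner_smul_left]
    have h2 := Core.classInner_irr_self (G := G) Core.isIrr_one
    change c * classInner (1 : G → ℂ) (1 : G → ℂ) = c
    rw [h2, mul_one]
  · intro χ _ hne
    split_ifs with h
    · have h1 : (fun _ : G => c) = c • (1 : G → ℂ) := by
        funext g
        simp
      rw [h1, Core.classInner_smul_left, Core.classInner_irr_ne Core.isIrr_one χ.2 (fun h2 => hne (Subtype.ext h2.symm)),
        mul_zero, zero_mul]
    · rfl
  · intro h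
    exact absurd (Finset.mem_univ _) h

/-- **The principal block part of `hat`.** -/
theorem blockPart_hat (hM : IsPModular p M) {P : Sylow p G} (hab : ∀ x ∈ P, ∀ y ∈ P, x * y = y * x)
    {θ : P → ℂ} (hθ : NInv P θ) (x : P) : blockPart (principalBlock M G) (hat P θ) x = θ x := by
  classical
  have := Fintype.ofFinite G
  have hfin : Finite (IrrCharacter G) := Core.finite_irr
  have := Fintype.ofFinite (IrrCharacter G)
  have h0 : IsClassFunction G (fun g => hat P θ g - θ x) := by
    intro g h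
    change hat P θ (h * g * h⁻¹) - θ x = hat P θ g - θ x
    rw [hat_isClassFunction hab hθ g h]
  have h1 := (S0925.result p M hM).1 (fun g => hat P θ g - θ x) h0 (x : G) (order_pow P x)
    (fun u z hz hc => by
      rw [hat_eq hab hθ hz hc.symm, sub_self]) (principalBlock M G) ⟨⟨fun _ => 1, Core.isIrr_one⟩, rfl⟩ (x : G) (x : G)
      (Blocks.PPart.isPPart_of_isPGroup (order_pow P x)) (IsConj.refl _)
  have h2 := blockPart_one (G := G) hM (θ x) (x : G)
  rw [blockPart_sum] at h1 h2 ⊢
  have h3 : (∑ χ : IrrCharacter G, if χ ∈ principalBlock M G then classInner (hat P θ) (χ : G → ℂ) * (χ : G → ℂ) x else 0) -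
      (∑ χ : IrrCharacter G, if χ ∈ principalBlock M G then classInner (fun _ : G => θ x) (χ : G → ℂ) * (χ : G → ℂ) x else 0) = 0 := by
    rw [← h1, ← Finset.sum_sub_distrib]
    refine Finset.sum_congr rfl fun χ _ => ?_
    split_ifs
    · have h4 : (fun g => hat P θ g - θ x) = hat P θ - fun _ : G => θ x := rfl
      rw [h4, Core.classInner_sub_left, sub_mul]
    · rw [sub_self]
  rw [h2, sub_eq_zero] at h3
  exact h3

end block

end Cfsg.Agent.H603.AP
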