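import Cfsg.Agent.H603.AP.Sq
import Cfsg.Agent.H603.AP.Hat
import Cfsg.Agent.OddOrderCharacters.PF13.SumBound
import Mathlib.GroupTheory.Transfer

/-!
# S4791 + S4927, D11: the height theorem (helper603)

`P` an abelian Sylow `p`-subgroup, `K = N(P) / C(P)`, `P_reg` the set of `x ∈ P` with `C_{N(P)}(x) = C(P)`. If
`|K| |P| < p ^ 2 |P_reg|` then all the characters of the principal block have degree prime to `p`.

Proof: for `x ∈ P_reg` the centralizer of `x` has a normal `p`-complement (Burnside), so a member `χ` of the principal block is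
constant on the `p`-section of `x` (`PrincipalConst.main`), `χ x ≠ 0` and `χ x / p` is an algebraic integer if `p ∣ χ 1`. So
`p ^ 2 |P_reg| ≤ ∑_{P_reg} |χ x| ^ 2` (arithmetic-geometric mean) and `∑_{P_reg} |χ x| ^ 2 ≤ |K| |P|` (`[χ, χ] = 1`).
-/

set_option autoImplicit false
set_option linter.unusedSectionVars false

open scoped ComplexConjugate

namespace Cfsg.Agent.H603.AP

open Cfsg
open Cfsg.Agent.Blocks Cfsg.Agent.Blocks.Local Cfsg.Agent.Characters
open Cfsg.Agent.H674.XZ Cfsg.Agent.H508.XR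

universe u

variable {p : ℕ} [hp : Fact p.Prime] {M : Ideal AlgInt} {G : Type u} [Group G] [Finite G]

theorem charDegree_eq' {χ : G → ℂ} (hχ : IsIrrCharacter G χ) : χ 1 = (charDegree χ : ℂ) := by
  obtain ⟨n, -, hn⟩ := Core.isIrr_apply_one hχ
  unfold charDegree
  rw [hn]
  simp

/-- the regular elements -/
def Reg (P : Sylow p G) (x : G) : Prop := x ∈ (P : Subgroup G) ∧
  ∀ g ∈ Subgroup.normalizer ((P : Subgroup G) : Set G), g * x = x * g → g ∈ Subgroup.centralizer ((P : Subgroup G) : Set G)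

/-- Burnside's normal complement in the centralizer of a regular element -/
theorem exists_compl {P : Sylow p G} (hab : ∀ x ∈ (P : Subgroup G), ∀ y ∈ (P : Subgroup G), x * y = y * x) {x : G}
    (hx : Reg P x) : ∃ O : Subgroup G, (∀ n ∈ O, Commute x n) ∧ (∀ c, Commute x c → ∀ n ∈ O, c * n * c⁻¹ ∈ O) ∧
      ¬ p ∣ Nat.card O ∧ Nat.card O * Nat.card P = Nat.card (Subgroup.centralizer ({x} : Set G)) ∧
      ∀ y, Commute x y → ¬ p ∣ orderOf y → y ∈ O := by
  set H := Subgroup.centralizer ({x} : Set G) with hH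
  have hPH : (P : Subgroup G) ≤ H := by
    intro y hy
    rw [hH, Subgroup.mem_centralizer_singleton_iff]
    exact hab _ hy _ hx.1
  let Q : Sylow p H := P.subtype hPH
  have hQ : (Q : Subgroup H) = (P : Subgroup G).subgroupOf H := rfl
  have hN : Subgroup.normalizer ((Q : Subgroup H) : Set H) ≤ Subgroup.centralizer ((Q : Subgroup H) : Set H) := by
    intro n hn
    have h1 : (n : G) ∈ Subgroup.normalizer ((P : Subgroup G) : Set G) := by
      rw [Subgroup.mem_normalizer_iff] at hn ⊢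
      intro y
      constructor
      · intro hy
        have h2 := (hn ⟨y, hPH hy⟩).1 (by exact hy)
        exact h2
      · intro hy
        have h2 : y ∈ H := by
          have h3 := hPH hy
          have h4 := H.mul_mem (H.mul_mem (H.inv_mem n.2) h3) n.2
          have h5 : (n : G)⁻¹ * (n * y * (n : G)⁻¹) * n = y := by group
          rwa [h5] at h4
        exact (hn ⟨y, h2⟩).2 (by exact hy)
    have h2 : (n : G) * x = x * n := (Subgroup.mem_centralizer_singleton_iff.1 n.2)
    have h3 := hx.2 _ h1 h2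
    rw [Subgroup.mem_centralizer_iff] at h3 ⊢
    intro y hy
    exact Subtype.ext (h3 y hy)
  have hc := MonoidHom.ker_transferSylow_isComplement' Q hN
  have hnd := MonoidHom.not_dvd_card_ker_transferSylow Q hN
  set O' := (MonoidHom.transferSylow Q hN).ker with hO'
  have hmem : ∀ y : G, Commute x y → y ∈ H := fun y hy => Subgroup.mem_centralizer_singleton_iff.2 hy.eq.symm
  have hcom : ∀ y ∈ H, Commute x y := fun y hy => (Subgroup.mem_centralizer_singleton_iff.1 hy).symm
  have hcard : Nat.card (O'.map H.subtype) = Nat.card O' := Subgroup.card_map_of_injective H.subtype_injective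
  refine ⟨O'.map H.subtype, ?_, ?_, ?_, ?_, ?_⟩
  · rintro n ⟨o, -, rfl⟩
    exact hcom _ o.2
  · rintro c hcx n ⟨o, ho, rfl⟩
    refine ⟨(⟨c, hmem c hcx⟩ : H) * o * (⟨c, hmem c hcx⟩ : H)⁻¹, ?_, rfl⟩
    exact (MonoidHom.normal_ker _).conj_mem o ho _
  · rw [hcard]
    exact hnd
  · rw [hcard]
    have h1 := hc.card_mul_card
    have h2 : Nat.card (Q : Subgroup H) = Nat.card P := by
      rw [hQ]
      exact Nat.card_congr (Subgroup.subgroupOfEquivOfLe hPH).toEquiv
    rw [← h1, h2]
  · intro y hy hyp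
    refine ⟨⟨y, hmem y hy⟩, ?_, rfl⟩
    change (MonoidHom.transferSylow Q hN) ⟨y, hmem y hy⟩ = 1
    have h1 : orderOf ((MonoidHom.transferSylow Q hN) ⟨y, hmem y hy⟩) ∣ orderOf y :=
      (orderOf_map_dvd (MonoidHom.transferSylow Q hN) ⟨y, hmem y hy⟩).trans (Subgroup.orderOf_mk _ _).dvd
    obtain ⟨k, hk⟩ := IsPGroup.iff_orderOf.1 Q.2 ((MonoidHom.transferSylow Q hN) ⟨y, hmem y hy⟩)
    have h2 : Nat.Coprime (orderOf y) (p ^ k) :=
      (Nat.Coprime.pow_left _ ((Nat.Prime.coprime_iff_not_dvd hp.out).2 hyp)).symm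
    exact orderOf_eq_one_iff.1 (Nat.eq_one_of_dvd_coprimes h2 h1 hk.dvd)

/-- members of the principal block are constant on the section of a regular element -/
theorem const_section (hM : IsPModular p M) {P : Sylow p G} {x : G} (hx : Reg P x) {χ : IrrCharacter G}
    (hχ : χ ∈ principalBlock M G) {O : Subgroup G} (h1 : ∀ n ∈ O, Commute x n) (h2 : ∀ c, Commute x c → ∀ n ∈ O, c * n * c⁻¹ ∈ O)
    (h3 : ¬ p ∣ Nat.card O) {v : G} (hv : v ∈ O) : (χ : G → ℂ) (x * v) = (χ : G → ℂ) x := by
  have := Fintype.ofFinite G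
  have := Fintype.ofFinite O
  obtain ⟨n, ρ, hρ, hχρ⟩ := χ.2
  have hB : ∀ g : G, MemLocalIdeal M (((Subgroup.centralizer ({g} : Set G)).index : ℂ) -
      ((Subgroup.centralizer ({g} : Set G)).index : ℂ) * ρ.character g / ρ.character 1) := by
    intro g
    have h4 := hχ g
    unfold centralChar at h4
    rw [mul_one, div_one, ← hχρ] at h4
    exact h4
  have hu : ∃ k : ℕ, orderOf x = p ^ k := by
    obtain ⟨k, hk⟩ := IsPGroup.iff_orderOf.1 P.2 ⟨x, hx.1⟩
    exact ⟨k, by rw [← hk, Subgroup.orderOf_mk]⟩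
  have key : ∀ v ∈ O, ρ.character (x * v) = (Nat.card O : ℂ)⁻¹ * ∑ n : O, ρ.character (x * n) := by
    intro v hv
    rw [PrincipalConst.main hM ρ hρ hB hu O h1 h2 ((Nat.Prime.coprime_iff_not_dvd hp.out).2 h3).symm hv]
    congr 1
    refine Fintype.sum_equiv (Equiv.mulLeft (⟨v, hv⟩ : O)) _ _ fun n => ?_
    rw [Equiv.coe_mulLeft, Subgroup.coe_mul, mul_assoc]
  rw [← hχρ, key v hv]
  have h5 := key 1 O.one_mem
  rw [mul_one] at h5
  exact h5.symm

/-- the values on `P` -/
theorem val_ne_zero (hM : IsPModular p M) {P : Sylow p G} (hab : ∀ x ∈ (P : Subgroup G), ∀ y ∈ (P : Subgroup G), x * y = y * x)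
    {x : G} (hx : x ∈ (P : Subgroup G)) {χ : IrrCharacter G} (hχ : χ ∈ principalBlock M G) : (χ : G → ℂ) x ≠ 0 := by
  have := isPrime_of_isPModular hM
  intro h0
  have h1 := hχ x
  unfold centralChar at h1
  rw [h0, mul_zero, zero_div, mul_one, div_one, sub_zero] at h1
  have h2 := (memLocalIdeal_natCast_iff hM _).1 h1
  have h3 : (P : Subgroup G) ≤ Subgroup.centralizer ({x} : Set G) := by
    intro y hy
    rw [Subgroup.mem_centralizer_singleton_iff]
    exact hab _ hy _ hx
  exact P.not_dvd_index (h2.trans (Subgroup.index_dvd_of_le h3))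

/-- integrality of `χ x / p` -/
theorem div_isIntegral {P : Sylow p G} (hab : ∀ x ∈ (P : Subgroup G), ∀ y ∈ (P : Subgroup G), x * y = y * x)
    {x : G} (hx : x ∈ (P : Subgroup G)) {χ : IrrCharacter G} (hd : p ∣ charDegree (χ : G → ℂ)) :
    IsIntegral ℤ ((χ : G → ℂ) x / p) := by
  obtain ⟨m, hm⟩ := hd
  have h2 := charDegree_eq' χ.2
  have h0 : (χ : G → ℂ) 1 ≠ 0 := Core.isIrr_apply_one_ne_zero χ.2
  have hp0 : (p : ℂ) ≠ 0 := by exact_mod_cast hp.out.ne_zero
  set n := (Subgroup.centralizer ({x} : Set G)).index with hn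
  have hnp : ¬ p ∣ n := by
    intro h
    have h3 : (P : Subgroup G) ≤ Subgroup.centralizer ({x} : Set G) := by
      intro y hy
      rw [Subgroup.mem_centralizer_singleton_iff]
      exact hab _ hy _ hx
    exact P.not_dvd_index (h.trans (Subgroup.index_dvd_of_le h3))
  have h4 : IsIntegral ℤ ((n : ℂ) * ((χ : G → ℂ) x / p)) := by
    have h5 : (n : ℂ) * ((χ : G → ℂ) x / p) = m * centralChar (χ : G → ℂ) x := by
      unfold centralChar
      rw [← hn, h2, hm]
      have hm0 : (m : ℂ) ≠ 0 := by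
        intro h6
        apply h0
        rw [h2, hm]
        push_cast
        rw [h6, mul_zero]
      push_cast
      field_simp
    rw [h5]
    exact (isIntegral_natCast (R := ℤ) m).mul (Central.isIntegral_centralChar χ.2 x)
  have h5 : IsIntegral ℤ ((p : ℂ) * ((χ : G → ℂ) x / p)) := by
    rw [mul_div_cancel₀ _ hp0]
    exact GaloisBasic.isIntegral_apply (Core.isIrr_isCharacter χ.2) x
  have h6 : IsCoprime (n : ℤ) (p : ℤ) := by
    rw [Nat.isCoprime_iff_coprime]
    exact ((Nat.Prime.coprime_iff_not_dvd hp.out).2 hnp).symm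
  obtain ⟨a, b, hb⟩ := h6
  have h7 : (χ : G → ℂ) x / p = (a : ℂ) * ((n : ℂ) * ((χ : G → ℂ) x / p)) + (b : ℂ) * ((p : ℂ) * ((χ : G → ℂ) x / p)) := by
    have h8 : ((a : ℂ) * n + b * p) = 1 := by exact_mod_cast hb
    linear_combination (-(χ : G → ℂ) x / p) * h8
  rw [h7]
  exact ((isIntegral_intCast (R := ℤ) a).mul h4).add ((isIntegral_intCast (R := ℤ) b).mul h5)

/-! ### the lower bound -/

theorem reg_pow {P : Sylow p G} {x : G} (hx : Reg P x) {m : ℕ} (hm : m.Coprime (Nat.card G)) : Reg P (x ^ m) := by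
  refine ⟨(P : Subgroup G).pow_mem hx.1 m, fun g hg h => hx.2 g hg ?_⟩
  obtain ⟨j, hj⟩ := exists_pow_eq_self_of_coprime (x := x) (n := m)
    (Nat.Coprime.coprime_dvd_right (orderOf_dvd_natCard x) hm)
  have h1 : Commute g ((x ^ m) ^ j) := Commute.pow_right h j
  rw [hj] at h1
  exact h1.eq

theorem reg_pow_iff {P : Sylow p G} {x : G} {m : ℕ} (hm : m.Coprime (Nat.card G)) : Reg P (x ^ m) ↔ Reg P x := by
  refine ⟨fun h => ⟨?_, fun g hg hc => h.2 g hg ?_⟩, fun h => reg_pow h hm⟩
  · obtain ⟨j, hj⟩ := exists_pow_eq_self_of_coprime (x := x) (n := m)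
      (Nat.Coprime.coprime_dvd_right (orderOf_dvd_natCard x) hm)
    rw [← hj]
    exact (P : Subgroup G).pow_mem h.1 j
  · exact (Commute.pow_right (show Commute g x from hc) m).eq

open scoped Classical in
/-- **Lower bound.** -/
theorem lower_bound [Fintype G] (hM : IsPModular p M) {P : Sylow p G} (hab : ∀ x ∈ (P : Subgroup G), ∀ y ∈ (P : Subgroup G), x * y = y * x)
    {χ : IrrCharacter G} (hχ : χ ∈ principalBlock M G) (hd : p ∣ charDegree (χ : G → ℂ)) :
    (p : ℝ) ^ 2 * (Finset.univ.filter fun x : G => Reg P x).card ≤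
      ∑ x ∈ Finset.univ.filter (fun x : G => Reg P x), ‖(χ : G → ℂ) x‖ ^ 2 := by
  have hp0 : (0 : ℝ) < p := by exact_mod_cast hp.out.pos
  let f : G → ℝ := fun g => if Reg P g then ‖(χ : G → ℂ) g / p‖ ^ 2 else 0
  have hf : ∀ g, ((f g : ℝ) : ℂ) = if Reg P g then ((χ : G → ℂ) g / p) * ((χ : G → ℂ) g⁻¹ / p) else 0 := by
    intro g
    simp only [f]
    split_ifs
    · rw [Core.isCharacter_apply_inv (Core.isIrr_isCharacter χ.2)]
      have h1 : conj ((χ : G → ℂ) g) / (p : ℂ) = conj ((χ : G → ℂ) g / p) := by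
        rw [map_div₀, map_natCast]
      rw [h1, Complex.mul_conj, Complex.normSq_eq_norm_sq]
    · simp
  have hinv : ∀ g, Reg P g → Reg P g⁻¹ := fun g hg =>
    ⟨(P : Subgroup G).inv_mem hg.1, fun n hn h => hg.2 n hn (by
      have h1 : Commute n g⁻¹ := h
      exact (Commute.inv_right_iff.1 h1).eq)⟩
  have h1 := OddOrderCharacters.PF13.SumBound.card_le_sum_of_gal f (fun g => by
      rw [hf]
      split_ifs with h
      · exact (div_isIntegral hab h.1 hd).mul (div_isIntegral hab (hinv g h).1 hd)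
      · exact isIntegral_zero) (fun σ => by
      obtain ⟨m, hm, h⟩ := GaloisBasic.exists_coprime_pow (σ : ℂ →+* ℂ) (n := Nat.card G) Nat.card_pos.ne'
      refine ⟨m, hm, fun g => ?_⟩
      have h2 : ∀ g, σ ((χ : G → ℂ) g) = (χ : G → ℂ) (g ^ m) := fun g =>
        GaloisBasic.map_apply_card σ (fun z hz => h z hz) (Core.isIrr_isCharacter χ.2) g
      rw [hf, hf, reg_pow_iff hm]
      split_ifs
      · rw [map_mul, map_div₀, map_div₀, h2, h2, map_natCast, inv_pow]
      · exact map_zero _) (Finset.univ.filter fun x : G => Reg P x)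
      (fun g hg m hm => by
        rw [Finset.mem_filter] at hg ⊢
        exact ⟨Finset.mem_univ _, reg_pow hg.2 hm⟩) (fun g hg => by
        rw [Finset.mem_filter] at hg
        simp only [f]
        rw [if_pos hg.2]
        have h3 := val_ne_zero hM hab hg.2.1 hχ
        have h4 : 0 < ‖(χ : G → ℂ) g / p‖ := norm_pos_iff.2 (div_ne_zero h3 (by exact_mod_cast hp.out.ne_zero))
        positivity)
  have h2 : ∑ x ∈ Finset.univ.filter (fun x : G => Reg P x), f x =
      (∑ x ∈ Finset.univ.filter (fun x : G => Reg P x), ‖(χ : G → ℂ) x‖ ^ 2) / (p : ℝ) ^ 2 := by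
    rw [Finset.sum_div]
    refine Finset.sum_congr rfl fun x hx => ?_
    rw [Finset.mem_filter] at hx
    simp only [f]
    rw [if_pos hx.2, norm_div, div_pow, Complex.norm_natCast]
  rw [h2, le_div_iff₀ (by positivity)] at h1
  linarith

/-! ### the upper bound -/

/-- the `p`-part -/
noncomputable def pq (p : ℕ) [Fact p.Prime] {G : Type u} [Group G] [Finite G] (g : G) : G := (PPart.exists_isPPart p g).choose

theorem pq_spec (g : G) : IsPPart p g (pq p g) := (PPart.exists_isPPart p g).choose_spec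

theorem pq_eq {g x : G} (h : IsPPart p g x) : pq p g = x := PPart.isPPart_unique (pq_spec g) h

theorem pq_conj (g c : G) : pq p (c * g * c⁻¹) = c * pq p g * c⁻¹ := pq_eq (PPart.isPPart_conj (pq_spec g) c)

open scoped Classical in
/-- the number of elements conjugating `z` to `x` -/
theorem card_conj [Fintype G] {x z : G} : (Finset.univ.filter fun g : G => g⁻¹ * z * g = x).card =
    if IsConj x z then Nat.card (Subgroup.centralizer ({x} : Set G)) else 0 := by
  split_ifs with h
  · obtain ⟨c, hc⟩ := isConj_iff.1 h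
    rw [← Fintype.card_subtype, ← Nat.card_eq_fintype_card]
    refine Nat.card_congr
      { toFun := fun g => ⟨c⁻¹ * g.1, ?_⟩
        invFun := fun t => ⟨c * t.1, ?_⟩
        left_inv := fun g => Subtype.ext (mul_inv_cancel_left _ _)
        right_inv := fun t => Subtype.ext (inv_mul_cancel_left _ _) }
    · obtain ⟨a, ha⟩ := g
      rw [Subgroup.mem_centralizer_singleton_iff]
      change c⁻¹ * a * x = x * (c⁻¹ * a)
      calc c⁻¹ * a * x = c⁻¹ * a * (a⁻¹ * z * a) := by rw [ha]
        _ = c⁻¹ * (c * x * c⁻¹) * a := by rw [hc]; group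
        _ = x * (c⁻¹ * a) := by group
    · have h1 := Subgroup.mem_centralizer_singleton_iff.1 t.2
      change (c * t.1)⁻¹ * z * (c * t.1) = x
      rw [← hc]
      calc (c * t.1)⁻¹ * (c * x * c⁻¹) * (c * t.1) = t.1⁻¹ * (x * t.1) := by group
        _ = t.1⁻¹ * (t.1 * x) := by rw [h1]
        _ = x := by group
  · rw [Finset.card_eq_zero, Finset.filter_eq_empty_iff]
    intro g _ h1
    apply h
    rw [isConj_iff]
    exact ⟨g, by rw [← h1]; group⟩

open scoped Classical in
/-- the size of the section -/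
theorem card_section [Fintype G] {x : G} (hx : ∃ k : ℕ, orderOf x = p ^ k) {O : Subgroup G} (h1 : ∀ n ∈ O, Commute x n)
    (h3 : ¬ p ∣ Nat.card O) (h4 : ∀ y, Commute x y → ¬ p ∣ orderOf y → y ∈ O) :
    (Finset.univ.filter fun v : G => pq p v = x).card = Nat.card O := by
  rw [← Fintype.card_subtype, ← Nat.card_eq_fintype_card]
  refine Nat.card_congr
    { toFun := fun v => ⟨x⁻¹ * v.1, ?_⟩
      invFun := fun t => ⟨x * t.1, ?_⟩
      left_inv := fun g => Subtype.ext (mul_inv_cancel_left _ _)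
      right_inv := fun t => Subtype.ext (inv_mul_cancel_left _ _) }
  · obtain ⟨y, hy1, hy2, -, hy3⟩ := pq_spec (p := p) v.1
    rw [v.2] at hy1 hy2
    rw [← hy1, inv_mul_cancel_left]
    exact h4 y hy2 hy3
  · refine pq_eq ⟨t.1, rfl, h1 t.1 t.2, hx, fun h => h3 (h.trans ?_)⟩
    rw [Subgroup.orderOf_coe]
    exact orderOf_dvd_natCard _

open scoped Classical in
/-- the double count -/
theorem double_count [Fintype G] {F : G → ℝ} (hF : ∀ g c : G, F (c * g * c⁻¹) = F g) (x : G) :
    (Nat.card G : ℝ) * ∑ v ∈ Finset.univ.filter (fun v : G => pq p v = x), F v =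
      ∑ w : G, F w * (Finset.univ.filter fun g : G => g⁻¹ * pq p w * g = x).card := by
  have h1 : ∀ g : G, ∑ v ∈ Finset.univ.filter (fun v : G => pq p v = x), F v =
      ∑ w : G, if g⁻¹ * pq p w * g = x then F w else 0 := by
    intro g
    rw [Finset.sum_filter]
    refine Fintype.sum_equiv (MulAut.conj g).toEquiv _ _ fun v => ?_
    change _ = if g⁻¹ * pq p (g * v * g⁻¹) * g = x then F (g * v * g⁻¹) else 0
    rw [pq_conj, hF]
    have h2 : g⁻¹ * (g * pq p v * g⁻¹) * g = pq p v := by group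
    rw [h2]
  have h2 : (Nat.card G : ℝ) * ∑ v ∈ Finset.univ.filter (fun v : G => pq p v = x), F v =
      ∑ g : G, ∑ v ∈ Finset.univ.filter (fun v : G => pq p v = x), F v := by
    rw [Finset.sum_const, Finset.card_univ, nsmul_eq_mul, Nat.card_eq_fintype_card]
  rw [h2, Finset.sum_congr rfl fun g _ => h1 g, Finset.sum_comm]
  refine Finset.sum_congr rfl fun w _ => ?_
  rw [← Finset.sum_filter, Finset.sum_const, nsmul_eq_mul, mul_comm]

open scoped Classical in
/-- one regular element -/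
theorem reg_sum [Fintype G] (hM : IsPModular p M) {P : Sylow p G} (hab : ∀ x ∈ (P : Subgroup G), ∀ y ∈ (P : Subgroup G), x * y = y * x)
    {χ : IrrCharacter G} (hχ : χ ∈ principalBlock M G) {x : G} (hx : Reg P x) :
    (Nat.card G : ℝ) * ‖(χ : G → ℂ) x‖ ^ 2 =
      Nat.card P * ∑ w : G, if IsConj x (pq p w) then ‖(χ : G → ℂ) w‖ ^ 2 else 0 := by
  obtain ⟨O, h1, h2, h3, h4, h5⟩ := exists_compl hab hx
  have hu : ∃ k : ℕ, orderOf x = p ^ k := by
    obtain ⟨k, hk⟩ := IsPGroup.iff_orderOf.1 P.2 ⟨x, hx.1⟩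
    exact ⟨k, by rw [← hk, Subgroup.orderOf_mk]⟩
  have hcl := Core.isIrr_isClassFunction χ.2
  have h6 := double_count (p := p) (F := fun g => ‖(χ : G → ℂ) g‖ ^ 2) (fun g c => by rw [hcl g c]) x
  have h7 : ∑ v ∈ Finset.univ.filter (fun v : G => pq p v = x), ‖(χ : G → ℂ) v‖ ^ 2 =
      Nat.card O * ‖(χ : G → ℂ) x‖ ^ 2 := by
    rw [← card_section hu h1 h3 h5, ← nsmul_eq_mul, ← Finset.sum_const]
    refine Finset.sum_congr rfl fun v hv => ?_
    rw [Finset.mem_filter] at hv
    obtain ⟨y, hy1, hy2, -, hy3⟩ := pq_spec (p := p) v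
    rw [hv.2] at hy1 hy2
    rw [← hy1, const_section hM hx hχ h1 h2 h3 (h5 y hy2 hy3)]
  have h8 : ∀ w : G, ‖(χ : G → ℂ) w‖ ^ 2 * ((Finset.univ.filter fun g : G => g⁻¹ * pq p w * g = x).card : ℝ) =
      (Nat.card O : ℝ) * (Nat.card P * if IsConj x (pq p w) then ‖(χ : G → ℂ) w‖ ^ 2 else 0) := by
    intro w
    rw [card_conj, ← h4]
    split_ifs
    · push_cast
      ring
    · simp
  have hO : (Nat.card O : ℝ) ≠ 0 := by exact_mod_cast Nat.card_pos.ne'
  have h9 : (Nat.card O : ℝ) * ((Nat.card G : ℝ) * ‖(χ : G → ℂ) x‖ ^ 2) = (Nat.card O : ℝ) *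
      (Nat.card P * ∑ w : G, if IsConj x (pq p w) then ‖(χ : G → ℂ) w‖ ^ 2 else 0) := by
    rw [h7, Finset.sum_congr rfl fun w _ => h8 w, ← Finset.mul_sum, ← Finset.mul_sum] at h6
    rw [← h6]
    ring
  exact mul_left_cancel₀ hO h9

open scoped Classical in
/-- fusion -/
theorem card_fus [Fintype G] {P : Sylow p G} (hab : ∀ x ∈ (P : Subgroup G), ∀ y ∈ (P : Subgroup G), x * y = y * x) (z : G) :
    (Finset.univ.filter fun x : G => Reg P x ∧ IsConj x z).card * Nat.card (Subgroup.centralizer ((P : Subgroup G) : Set G)) ≤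
      Nat.card (Subgroup.normalizer ((P : Subgroup G) : Set G)) := by
  rcases (Finset.univ.filter fun x : G => Reg P x ∧ IsConj x z).eq_empty_or_nonempty with h0 | ⟨x₀, hx₀⟩
  · rw [h0, Finset.card_empty, zero_mul]
    exact Nat.zero_le _
  · rw [Finset.mem_filter] at hx₀
    have hc : IsMulCommutative P := ⟨⟨fun a b => Subtype.ext (hab a a.2 b b.2)⟩⟩
    have key : ∀ x : {x : G // x ∈ Finset.univ.filter fun x : G => Reg P x ∧ IsConj x z},
        ∃ n ∈ Subgroup.normalizer ((P : Subgroup G) : Set G), n * x₀ * n⁻¹ = x.1 := by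
      intro x
      have hx := (Finset.mem_filter.1 x.2).2
      obtain ⟨c, hc1⟩ := isConj_iff.1 (hx₀.2.2.trans hx.2.symm)
      obtain ⟨n, hn, hn1⟩ := P.conj_eq_normalizer_conj_of_mem x₀ c⁻¹ hx₀.2.1.1 (by rw [inv_inv, hc1]; exact hx.1.1)
      rw [inv_inv, hc1] at hn1
      exact ⟨n⁻¹, Subgroup.inv_mem _ hn, by rw [hn1, inv_inv]⟩
    choose n hn1 hn2 using key
    have hCN : Subgroup.centralizer ((P : Subgroup G) : Set G) ≤ Subgroup.normalizer ((P : Subgroup G) : Set G) :=
      Subgroup.centralizer_le_normalizer _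
    have hinj : Function.Injective fun t : {x : G // x ∈ Finset.univ.filter fun x : G => Reg P x ∧ IsConj x z} ×
        Subgroup.centralizer ((P : Subgroup G) : Set G) => (⟨n t.1 * t.2, Subgroup.mul_mem _ (hn1 t.1) (hCN t.2.2)⟩ :
          Subgroup.normalizer ((P : Subgroup G) : Set G)) := by
      rintro ⟨x, c⟩ ⟨y, d⟩ h
      have h1 : n x * c = n y * d := congrArg Subtype.val h
      have hcx : ∀ c : Subgroup.centralizer ((P : Subgroup G) : Set G), (c : G) * x₀ * (c : G)⁻¹ = x₀ := by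
        intro c
        have h2 := (Subgroup.mem_centralizer_iff.1 c.2) x₀ hx₀.2.1.1
        rw [← h2, mul_inv_cancel_right]
      have h2 : x = y := by
        apply Subtype.ext
        rw [← hn2 x, ← hn2 y]
        calc n x * x₀ * (n x)⁻¹ = (n x * c) * x₀ * (n x * c)⁻¹ := by
              conv_lhs => rw [← hcx c]
              group
          _ = (n y * d) * x₀ * (n y * d)⁻¹ := by rw [h1]
          _ = n y * x₀ * (n y)⁻¹ := by
              conv_rhs => rw [← hcx d]
              group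
      subst h2
      exact Prod.ext rfl (Subtype.ext (mul_left_cancel h1))
    have h1 := Nat.card_le_card_of_injective _ hinj
    rwa [Nat.card_prod, Nat.card_eq_fintype_card (α := {x : G // x ∈ Finset.univ.filter fun x : G => Reg P x ∧ IsConj x z}),
      Fintype.card_coe] at h1

open scoped Classical in
/-- **Upper bound.** -/
theorem upper_bound [Fintype G] (hM : IsPModular p M) {P : Sylow p G} (hab : ∀ x ∈ (P : Subgroup G), ∀ y ∈ (P : Subgroup G), x * y = y * x)
    {χ : IrrCharacter G} (hχ : χ ∈ principalBlock M G) :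
    (Nat.card (Subgroup.centralizer ((P : Subgroup G) : Set G)) : ℝ) *
      ∑ x ∈ Finset.univ.filter (fun x : G => Reg P x), ‖(χ : G → ℂ) x‖ ^ 2 ≤
      Nat.card (Subgroup.normalizer ((P : Subgroup G) : Set G)) * Nat.card P := by
  have hG : (0 : ℝ) < Nat.card G := by exact_mod_cast Nat.card_pos
  have hP : (0 : ℝ) < Nat.card P := by exact_mod_cast Nat.card_pos
  have hnorm : ∑ w : G, ‖(χ : G → ℂ) w‖ ^ 2 = Nat.card G := by
    have h1 := Core.classInner_irr_self χ.2
    rw [Core.classInner_def] at h1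
    have h2 : ∑ g : G, (χ : G → ℂ) g * conj ((χ : G → ℂ) g) = ((∑ w : G, ‖(χ : G → ℂ) w‖ ^ 2 : ℝ) : ℂ) := by
      rw [Complex.ofReal_sum]
      exact Finset.sum_congr rfl fun g _ => by rw [Complex.mul_conj, Complex.normSq_eq_norm_sq]
    rw [h2, inv_mul_eq_one₀ (by exact_mod_cast Nat.card_pos.ne')] at h1
    exact_mod_cast h1.symm
  have h1 : (Nat.card G : ℝ) * ∑ x ∈ Finset.univ.filter (fun x : G => Reg P x), ‖(χ : G → ℂ) x‖ ^ 2 =
      Nat.card P * ∑ w : G, ((Finset.univ.filter fun x : G => Reg P x ∧ IsConj x (pq p w)).card : ℝ) * ‖(χ : G → ℂ) w‖ ^ 2 := by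
    rw [Finset.mul_sum, Finset.sum_congr rfl fun x hx => reg_sum hM hab hχ (Finset.mem_filter.1 hx).2, ← Finset.mul_sum,
      Finset.sum_comm]
    congr 1
    refine Finset.sum_congr rfl fun w _ => ?_
    rw [← Finset.sum_filter, Finset.filter_filter, Finset.sum_const, nsmul_eq_mul]
  have h2 : (Nat.card (Subgroup.centralizer ((P : Subgroup G) : Set G)) : ℝ) *
      ∑ w : G, ((Finset.univ.filter fun x : G => Reg P x ∧ IsConj x (pq p w)).card : ℝ) * ‖(χ : G → ℂ) w‖ ^ 2 ≤
      Nat.card (Subgroup.normalizer ((P : Subgroup G) : Set G)) * Nat.card G := by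
    rw [← hnorm, Finset.mul_sum, Finset.mul_sum]
    refine Finset.sum_le_sum fun w _ => ?_
    rw [← mul_assoc]
    refine mul_le_mul_of_nonneg_right ?_ (by positivity)
    have h3 := card_fus hab (pq p w)
    rw [mul_comm]
    exact_mod_cast h3
  have h3 : (Nat.card G : ℝ) * ((Nat.card (Subgroup.centralizer ((P : Subgroup G) : Set G)) : ℝ) *
      ∑ x ∈ Finset.univ.filter (fun x : G => Reg P x), ‖(χ : G → ℂ) x‖ ^ 2) ≤
      (Nat.card G : ℝ) * (Nat.card (Subgroup.normalizer ((P : Subgroup G) : Set G)) * Nat.card P) := by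
    calc (Nat.card G : ℝ) * ((Nat.card (Subgroup.centralizer ((P : Subgroup G) : Set G)) : ℝ) *
          ∑ x ∈ Finset.univ.filter (fun x : G => Reg P x), ‖(χ : G → ℂ) x‖ ^ 2)
        = (Nat.card (Subgroup.centralizer ((P : Subgroup G) : Set G)) : ℝ) * ((Nat.card G : ℝ) *
          ∑ x ∈ Finset.univ.filter (fun x : G => Reg P x), ‖(χ : G → ℂ) x‖ ^ 2) := by ring
      _ = (Nat.card P : ℝ) * ((Nat.card (Subgroup.centralizer ((P : Subgroup G) : Set G)) : ℝ) *
          ∑ w : G, ((Finset.univ.filter fun x : G => Reg P x ∧ IsConj x (pq p w)).card : ℝ) * ‖(χ : G → ℂ) w‖ ^ 2) := by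
          rw [h1]; ring
      _ ≤ (Nat.card P : ℝ) * (Nat.card (Subgroup.normalizer ((P : Subgroup G) : Set G)) * Nat.card G) :=
          mul_le_mul_of_nonneg_left h2 hP.le
      _ = _ := by ring
  exact le_of_mul_le_mul_left h3 hG

/-- **The height theorem.** -/
theorem not_dvd_of_reg (hM : IsPModular p M) (P : Sylow p G) (hab : ∀ x ∈ (P : Subgroup G), ∀ y ∈ (P : Subgroup G), x * y = y * x)
    (h : Nat.card (Subgroup.normalizer ((P : Subgroup G) : Set G)) * Nat.card P <
      p ^ 2 * Nat.card (Subgroup.centralizer ((P : Subgroup G) : Set G)) * Nat.card {x : G // Reg P x})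
    (χ : IrrCharacter G) (hχ : χ ∈ principalBlock M G) : ¬ p ∣ charDegree (χ : G → ℂ) := by
  classical
  have := Fintype.ofFinite G
  intro hd
  have h1 := lower_bound hM hab hχ hd
  have h2 := upper_bound hM hab hχ
  have hC : (0 : ℝ) < Nat.card (Subgroup.centralizer ((P : Subgroup G) : Set G)) := by exact_mod_cast Nat.card_pos
  have h3 := (mul_le_mul_of_nonneg_left h1 hC.le).trans h2
  have h4 : (Finset.univ.filter fun x : G => Reg P x).card = Nat.card {x : G // Reg P x} := by
    rw [Nat.card_eq_fintype_card, Fintype.card_subtype]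
  rw [h4] at h3
  have h5 : p ^ 2 * Nat.card (Subgroup.centralizer ((P : Subgroup G) : Set G)) * Nat.card {x : G // Reg P x} ≤
      Nat.card (Subgroup.normalizer ((P : Subgroup G) : Set G)) * Nat.card P := by
    have h6 : ((p ^ 2 * Nat.card (Subgroup.centralizer ((P : Subgroup G) : Set G)) * Nat.card {x : G // Reg P x} : ℕ) : ℝ) ≤
        ((Nat.card (Subgroup.normalizer ((P : Subgroup G) : Set G)) * Nat.card P : ℕ) : ℝ) := by
      push_cast
      calc (p : ℝ) ^ 2 * (Nat.card (Subgroup.centralizer ((P : Subgroup G) : Set G)) : ℝ) * (Nat.card {x : G // Reg P x} : ℝ)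
          = (Nat.card (Subgroup.centralizer ((P : Subgroup G) : Set G)) : ℝ) * ((p : ℝ) ^ 2 * (Nat.card {x : G // Reg P x} : ℝ)) := by
            ring
        _ ≤ _ := h3
    exact_mod_cast h6
  omega

/-- D11 -/
theorem x0_eq_kJ_of_reg (hM : IsPModular p M) (P : Sylow p G) (hP : ∀ x ∈ (P : Subgroup G), ∀ y ∈ (P : Subgroup G), x * y = y * x)
    (h : Nat.card (Subgroup.normalizer ((P : Subgroup G) : Set G)) * Nat.card P <
      p ^ 2 * Nat.card (Subgroup.centralizer ((P : Subgroup G) : Set G)) *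
        Nat.card {x : G // x ∈ (P : Subgroup G) ∧ ∀ g ∈ Subgroup.normalizer ((P : Subgroup G) : Set G), g * x = x * g →
          g ∈ Subgroup.centralizer ((P : Subgroup G) : Set G)}) : x0 p M G = kJ p M G :=
  x0_eq_kJ (not_dvd_of_reg hM P hP h)

end Cfsg.Agent.H603.AP
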