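import Cfsg.Agent.H508.XR.Defs2
import Cfsg.Agent.H674.XZ.Base
import Cfsg.Agent.S4710

/-!
# S4791 + S4927, D10 (helper603)

`x0_eq_kJ` : if all the characters of the principal block have degree prime to `p` then `x0 = kJ`;
`x0_eq_kJ_of_sq` : this is so if the Sylow `p`-subgroups have order `p ^ 2` (Brauer–Feit, S4710).
-/

set_option autoImplicit false
set_option linter.unusedSectionVars false

namespace Cfsg.Agent.H603.AP

open Cfsg
open Cfsg.Agent.H674.XZ Cfsg.Agent.H508.XR

universe u

variable {p : ℕ} [hp : Fact p.Prime] {M : Ideal AlgInt} {S : Type u} [Group S] [Finite S]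

omit [Finite S] hp in
theorem x0_eq_kJ (h : ∀ χ ∈ principalBlock M S, ¬ p ∣ charDegree (χ : S → ℂ)) : x0 p M S = kJ p M S := by
  unfold x0 kJ
  refine Nat.card_congr (Equiv.subtypeEquivRight fun χ => ?_)
  exact ⟨fun h1 => ⟨h1.1, h1.2.2⟩, fun h1 => ⟨h1.1, h χ h1.1, h1.2⟩⟩

theorem one_mem' (hM : IsPModular p M) :
    (⟨fun _ => 1, Characters.Core.isIrr_one⟩ : IrrCharacter S) ∈ principalBlock M S := by
  have := Blocks.Local.isPrime_of_isPModular hM
  intro g
  rw [sub_self]
  exact Blocks.Local.memLocalIdeal_zero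

omit [Finite S] hp in
theorem charDegree_const_one : charDegree (fun _ : S => (1 : ℂ)) = 1 := by
  unfold charDegree
  simp

theorem sInf_principal (hM : IsPModular p M) :
    sInf ((fun χ : IrrCharacter S => (charDegree (χ : S → ℂ)).factorization p) '' principalBlock M S) = 0 := by
  refine Nat.sInf_eq_zero.2 (Or.inl ⟨_, one_mem' hM, ?_⟩)
  change (charDegree (fun _ : S => (1 : ℂ))).factorization p = 0
  rw [charDegree_const_one, Nat.factorization_one]
  rfl

theorem x0_eq_kJ_of_sq (hM : IsPModular p M) (P : Sylow p S) (hP : Nat.card P = p ^ 2) : x0 p M S = kJ p M S := by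
  have h1 : (Nat.card S).factorization p = 2 := by
    have h2 := P.card_eq_multiplicity
    rw [hP] at h2
    exact (Nat.pow_right_injective hp.out.two_le h2).symm
  have hd : blockDefect p (principalBlock M S) = 2 := by
    unfold blockDefect
    rw [sInf_principal hM, h1]
  have h2 := (S4710.result p M hM (principalBlock M S) ⟨⟨fun _ => 1, Characters.Core.isIrr_one⟩, rfl⟩ 2 hd).2
  refine x0_eq_kJ fun χ hχ hdvd => ?_
  have h3 := (h2 χ hχ).2 le_rfl
  unfold blockHeight at h3
  rw [sInf_principal hM, Nat.sub_zero, Nat.sub_self, Nat.le_zero] at h3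
  have h4 : charDegree (χ : S → ℂ) ≠ 0 := by
    obtain ⟨n, hn, hn'⟩ := Characters.Core.isIrr_apply_one χ.2
    unfold charDegree
    rw [hn']
    simp only [Complex.natCast_re, Nat.floor_natCast]
    exact hn.ne'
  exact absurd h3 (Nat.pos_iff_ne_zero.1 ((hp.out.factorization_pos_of_dvd h4 hdvd)))

end Cfsg.Agent.H603.AP
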