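import Cfsg.Agent.H603.AP.Dual

/-!
# Polynomial functions on the linear characters of exponent `p` (helper603, for S4791 + S4927)

* `mono xs l = ∏_{y ∈ xs} l y`; `Pol p A k` : the span of the `mono xs`, `|xs| = k` (homogeneous polynomials of degree `k`);
  `PP p A` : the span of the `mono xs` with `1 ≤ |xs| ≤ p - 2`.
* `Pol_apply_pow` : `f (l ^ j) = j ^ k f l`; `Pol_mul`, `Pol_pow`.
* `Pf f φ = ∑_l mi φ l f l`; `Pf_eq_zero` : `Pf f φ = 0` for `f ∈ PP` (even with the constants) if `φ` takes values in `p R` and is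
  invariant under `x ↦ x ^ k`, `k ≡ 1` modulo `p`; `Pf_rat` : `Pf f φ = 0` for `f ∈ PP` if `φ (x ^ j) = φ x` for all `j` prime to `p`.
* `pow_linInd` : the powers `f, f ^ 2, ...` of a homogeneous polynomial of degree `e` are linearly independent as long as
  `i e ≤ p - 2`.
-/

set_option autoImplicit false
set_option linter.unusedSectionVars false

open scoped ComplexConjugate

namespace Cfsg.Agent.H603.AP

open Cfsg
open Cfsg.Agent.Blocks Cfsg.Agent.Blocks.Local Cfsg.Agent.Characters

universe u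

variable {p : ℕ} {A : Type u} [Group A]

/-- products of evaluations -/
def mono (xs : List A) (l : LL p A) : ZMod p := (xs.map fun y => ev l y).prod

theorem mono_append (xs ys : List A) : (mono (xs ++ ys) : LL p A → ZMod p) = mono xs * mono ys := by
  funext l
  simp [mono]

theorem mono_nil : (mono ([] : List A) : LL p A → ZMod p) = 1 := by
  funext l
  simp [mono]

theorem ev_pow' (l : LL p A) (j : ℕ) (x : A) : ev (l ^ j) x = j * ev l x := by
  unfold ev
  rw [MonoidHom.pow_apply, toAdd_pow, nsmul_eq_mul]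

theorem mono_pow (xs : List A) (l : LL p A) (j : ℕ) : mono xs (l ^ j) = (j : ZMod p) ^ xs.length * mono xs l := by
  induction xs with
  | nil => simp [mono]
  | cons y xs ih =>
    unfold mono at ih ⊢
    rw [List.map_cons, List.prod_cons, ih, List.map_cons, List.prod_cons, List.length_cons, ev_pow', pow_succ]
    ring

/-- homogeneous polynomial functions of degree `k` -/
def Pol (p : ℕ) (A : Type u) [Group A] (k : ℕ) : Submodule (ZMod p) (LL p A → ZMod p) :=
  Submodule.span (ZMod p) {f | ∃ xs : List A, xs.length = k ∧ f = mono xs}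

/-- polynomial functions of degree `1, ..., p - 2` -/
def PP (p : ℕ) (A : Type u) [Group A] : Submodule (ZMod p) (LL p A → ZMod p) :=
  Submodule.span (ZMod p) {f | ∃ xs : List A, xs ≠ [] ∧ xs.length + 2 ≤ p ∧ f = mono xs}

theorem mono_mem (xs : List A) : (mono xs : LL p A → ZMod p) ∈ Pol p A xs.length :=
  Submodule.subset_span ⟨xs, rfl, rfl⟩

theorem ev_mem (x : A) : (fun l => ev l x) ∈ Pol p A 1 := by
  have h := mono_mem (p := p) [x]
  have h1 : (mono [x] : LL p A → ZMod p) = fun l => ev l x := by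
    funext l
    simp [mono]
  rw [h1] at h
  exact h

theorem one_mem_Pol : (1 : LL p A → ZMod p) ∈ Pol p A 0 := by
  rw [← mono_nil]
  exact mono_mem []

theorem Pol_le_PP {k : ℕ} (h1 : 1 ≤ k) (h2 : k + 2 ≤ p) : Pol p A k ≤ PP p A := by
  refine Submodule.span_mono ?_
  rintro f ⟨xs, rfl, rfl⟩
  refine ⟨xs, fun h => ?_, h2, rfl⟩
  rw [h] at h1
  exact absurd h1 (by simp)

theorem Pol_mul {k m : ℕ} {f g : LL p A → ZMod p} (hf : f ∈ Pol p A k) (hg : g ∈ Pol p A m) : f * g ∈ Pol p A (k + m) := by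
  induction hf using Submodule.span_induction with
  | mem f hf =>
    obtain ⟨xs, rfl, rfl⟩ := hf
    induction hg using Submodule.span_induction with
    | mem g hg =>
      obtain ⟨ys, rfl, rfl⟩ := hg
      rw [← mono_append, ← List.length_append]
      exact mono_mem _
    | zero =>
      rw [mul_zero]
      exact Submodule.zero_mem _
    | add a b _ _ ha hb =>
      rw [mul_add]
      exact Submodule.add_mem _ ha hb
    | smul c a _ ha =>
      rw [mul_smul_comm]
      exact Submodule.smul_mem _ _ ha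
  | zero =>
    rw [zero_mul]
    exact Submodule.zero_mem _
  | add a b _ _ ha hb =>
    rw [add_mul]
    exact Submodule.add_mem _ ha hb
  | smul c a _ ha =>
    rw [smul_mul_assoc]
    exact Submodule.smul_mem _ _ ha

theorem Pol_pow {k : ℕ} {f : LL p A → ZMod p} (hf : f ∈ Pol p A k) (i : ℕ) : f ^ i ∈ Pol p A (i * k) := by
  induction i with
  | zero =>
    rw [pow_zero, zero_mul]
    exact one_mem_Pol
  | succ i ih =>
    rw [pow_succ, Nat.succ_mul]
    exact Pol_mul ih hf

theorem Pol_apply_pow {k : ℕ} {f : LL p A → ZMod p} (hf : f ∈ Pol p A k) (l : LL p A) (j : ℕ) :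
    f (l ^ j) = (j : ZMod p) ^ k * f l := by
  induction hf using Submodule.span_induction with
  | mem f hf =>
    obtain ⟨xs, rfl, rfl⟩ := hf
    exact mono_pow xs l j
  | zero => simp
  | add a b _ _ ha hb =>
    rw [Pi.add_apply, Pi.add_apply, ha, hb]
    ring
  | smul c a _ ha =>
    rw [Pi.smul_apply, Pi.smul_apply, ha, smul_eq_mul, smul_eq_mul]
    ring

variable [hp : Fact p.Prime] [Finite A]

/-- the functional -/
noncomputable def Pf (f : LL p A → ZMod p) (φ : A → ℂ) : ZMod p :=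
  haveI := finite_LL (p := p) (A := A)
  letI := Fintype.ofFinite (LL p A)
  ∑ l, (mi φ l : ZMod p) * f l

theorem Pf_eq [i : Fintype (LL p A)] (f : LL p A → ZMod p) (φ : A → ℂ) : Pf f φ = ∑ l, (mi φ l : ZMod p) * f l := by
  have := finite_LL (p := p) (A := A)
  have h : Fintype.ofFinite (LL p A) = i := Subsingleton.elim _ _
  unfold Pf
  rw [h]

theorem Pf_add (f g : LL p A → ZMod p) (φ : A → ℂ) : Pf (f + g) φ = Pf f φ + Pf g φ := by
  have := finite_LL (p := p) (A := A)
  have := Fintype.ofFinite (LL p A)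
  rw [Pf_eq, Pf_eq, Pf_eq, ← Finset.sum_add_distrib]
  exact Finset.sum_congr rfl fun l _ => by rw [Pi.add_apply, mul_add]

theorem Pf_smul (c : ZMod p) (f : LL p A → ZMod p) (φ : A → ℂ) : Pf (c • f) φ = c * Pf f φ := by
  have := finite_LL (p := p) (A := A)
  have := Fintype.ofFinite (LL p A)
  rw [Pf_eq, Pf_eq, Finset.mul_sum]
  exact Finset.sum_congr rfl fun l _ => by rw [Pi.smul_apply, smul_eq_mul]; ring

theorem Pf_zero (φ : A → ℂ) : Pf (0 : LL p A → ZMod p) φ = 0 := by
  have := finite_LL (p := p) (A := A)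
  have := Fintype.ofFinite (LL p A)
  rw [Pf_eq]
  simp

/-- as a linear map -/
noncomputable def PfL (φ : A → ℂ) : (LL p A → ZMod p) →ₗ[ZMod p] ZMod p where
  toFun f := Pf f φ
  map_add' f g := Pf_add f g φ
  map_smul' c f := Pf_smul c f φ

theorem PfL_apply (f : LL p A → ZMod p) (φ : A → ℂ) : PfL φ f = Pf f φ := rfl

variable {M : Ideal AlgInt}

/-- **Vanishing.** -/
theorem Pf_mono_eq_zero (hM : IsPModular p M) (hab : ∀ a b : A, a * b = b * a) (hA : IsPGroup p A) {φ : A → ℂ}
    (hφ : IsGeneralizedCharacter A φ) (hJ : ∀ k : ℕ, k ≡ 1 [MOD p] → ∀ x, φ (x ^ k) = φ x) (hR : ∀ x, PR p M (φ x))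
    (xs : List A) (hxs : xs.length + 2 ≤ p) : Pf (mono xs : LL p A → ZMod p) φ = 0 := by
  have := isPrime_of_isPModular hM
  have := finite_LL (p := p) (A := A)
  have := Fintype.ofFinite (LL p A)
  rw [Pf_eq]
  exact moment hM (fun x => dual_PR hab hA hφ hJ hR x) xs hxs

theorem Pf_eq_zero (hM : IsPModular p M) (hab : ∀ a b : A, a * b = b * a) (hA : IsPGroup p A) {φ : A → ℂ}
    (hφ : IsGeneralizedCharacter A φ) (hJ : ∀ k : ℕ, k ≡ 1 [MOD p] → ∀ x, φ (x ^ k) = φ x) (hR : ∀ x, PR p M (φ x))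
    {f : LL p A → ZMod p} (hf : f ∈ PP p A) : Pf f φ = 0 := by
  rw [← PfL_apply]
  have h : PP p A ≤ LinearMap.ker (PfL φ) := by
    refine Submodule.span_le.2 ?_
    rintro g ⟨xs, -, hxs, rfl⟩
    exact Pf_mono_eq_zero hM hab hA hφ hJ hR xs hxs
  exact h hf

/-- a primitive root -/
theorem exists_root (hp : p.Prime) : ∃ g : ℕ, g.Coprime p ∧ ∀ d : ℕ, d ≠ 0 → d + 2 ≤ p → ((g : ZMod p)) ^ d ≠ 1 := by
  have : Fact p.Prime := ⟨hp⟩
  obtain ⟨g, hg⟩ := IsCyclic.exists_generator (α := (ZMod p)ˣ)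
  refine ⟨(g : ZMod p).val, ZMod.val_coe_unit_coprime g, fun d hd hd' h => ?_⟩
  rw [ZMod.natCast_zmod_val] at h
  have h1 : g ^ d = 1 := Units.ext (by rw [Units.val_pow_eq_pow_val, h, Units.val_one])
  have h2 : orderOf g ∣ d := orderOf_dvd_of_pow_eq_one h1
  rw [orderOf_eq_card_of_forall_mem_zpowers hg, Nat.card_eq_fintype_card, ZMod.card_units_eq_totient, Nat.totient_prime hp] at h2
  have h3 := Nat.le_of_dvd (Nat.pos_of_ne_zero hd) h2
  have := hp.two_le
  omega

/-- powers on the linear characters -/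
theorem mi_pow (hA : IsPGroup p A) {φ : A → ℂ} {j : ℕ} (hj : j.Coprime p) (hφ : ∀ x, φ (x ^ j) = φ x) (l : LL p A) :
    mi φ (l ^ j) = mi φ l := by
  have h1 : j.Coprime (Nat.card A) := by
    obtain ⟨n, hn⟩ := IsPGroup.iff_card.1 hA
    rw [hn]
    exact Nat.Coprime.pow_right _ hj
  have h2 := ipc_pow h1 hφ (chU l)
  have h3 : (fun y => (((chU l) ^ j) y : ℂ)) = ch (l ^ j) := by
    funext y
    rw [MonoidHom.pow_apply, Units.val_pow_eq_pow_val, chU_apply]
    unfold ch
    rw [ev_pow', ← nsmul_eq_mul, AddChar.map_nsmul_eq_pow]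
  rw [h3] at h2
  unfold mi
  rw [h2]
  rfl

/-- **The rational case.** -/
theorem Pf_rat (hA : IsPGroup p A) {φ : A → ℂ} (hφ : ∀ j : ℕ, j.Coprime p → ∀ x, φ (x ^ j) = φ x)
    {f : LL p A → ZMod p} (hf : f ∈ PP p A) : Pf f φ = 0 := by
  have := finite_LL (p := p) (A := A)
  have := Fintype.ofFinite (LL p A)
  obtain ⟨g, hg, hg'⟩ := exists_root hp.out
  rw [← PfL_apply]
  have h : PP p A ≤ LinearMap.ker (PfL φ) := by
    refine Submodule.span_le.2 ?_
    rintro f ⟨xs, hxs0, hxs, rfl⟩
    change Pf (mono xs) φ = 0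
    have h1 : Pf (mono xs) φ = (g : ZMod p) ^ xs.length * Pf (mono xs) φ := by
      conv_lhs => rw [Pf_eq]
      have hb : Function.Bijective fun l : LL p A => l ^ g := by
        rw [Fintype.bijective_iff_injective_and_card]
        refine ⟨fun l m h => ?_, rfl⟩
        obtain ⟨k, hk⟩ := Nat.exists_mul_mod_eq_one_of_coprime hg hp.out.one_lt
        have h5 : ∀ l : LL p A, (l ^ g) ^ k = l := by
          intro l
          refine ev_ext fun x => ?_
          rw [ev_pow', ev_pow', ← mul_assoc, ← Nat.cast_mul]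
          have h6 : ((k * g : ℕ) : ZMod p) = 1 := by
            rw [← Nat.cast_one, ZMod.natCast_eq_natCast_iff, mul_comm]
            exact hk.2.trans (Nat.mod_eq_of_lt hp.out.one_lt).symm
          rw [h6, one_mul]
        rw [← h5 l, ← h5 m]
        exact congrArg (· ^ k) h
      rw [← Equiv.sum_comp (Equiv.ofBijective _ hb)]
      rw [Pf_eq, Finset.mul_sum]
      refine Finset.sum_congr rfl fun l _ => ?_
      change (mi φ (l ^ g) : ZMod p) * mono xs (l ^ g) = _
      rw [mi_pow hA hg (hφ g hg), mono_pow]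
      ring
    have h2 : ((g : ZMod p) ^ xs.length - 1) * Pf (mono xs) φ = 0 := by
      rw [sub_mul, one_mul, ← h1, sub_self]
    rcases mul_eq_zero.1 h2 with h3 | h3
    · exact absurd (sub_eq_zero.1 h3) (hg' _ (fun h => hxs0 (List.length_eq_zero_iff.1 h)) hxs)
    · exact h3
  exact h hf

end Cfsg.Agent.H603.AP
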