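import Cfsg.Agent.H674.XZ.Base
import Cfsg.Agent.H603.AP.Pol
import Cfsg.Agent.H603.AP.Hat

/-!
# The rank theorem for an abelian Sylow subgroup (helper603, for S4791 + S4927)

`P` an abelian Sylow `p`-subgroup of `G`.

* `RatP P χ` : `χ (x ^ j) = χ x` for `x ∈ P`, `j` prime to `p`.
* `WInv P f` : the function `f` on the linear characters of exponent `p` of `P` is `N_G(P)`-invariant.
* `rank_le` : if `V` is a space of invariant polynomial functions of degrees `1, ..., p - 2` then the number of the members of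
  `X0` which are not `RatP` is at least `dim V`.
* `card_nonrat` : if `f ≠ 0` is an invariant homogeneous polynomial of degree `e ≥ 1`: this number is at least `(p - 2) / e`.
-/

set_option autoImplicit false
set_option linter.unusedSectionVars false

open scoped ComplexConjugate

namespace Cfsg.Agent.H603.AP

open Cfsg
open Cfsg.Agent.Blocks Cfsg.Agent.Blocks.Local Cfsg.Agent.Characters
open Cfsg.Agent.H674.XZ

universe u

variable {p : ℕ} [hp : Fact p.Prime] {G : Type u} [Group G] [Finite G]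

/-! ### the exponents -/

/-- the exponents `≡ 1` modulo `p` on the elements of `P` -/
theorem jfix_pow (P : Sylow p G) {ψ : G → ℂ} (h : ∀ u ∈ JJ p G, ∀ g, ψ (g ^ ex u) = ψ g) {k : ℕ} (hk : k ≡ 1 [MOD p]) (x : P) :
    ψ ((x : G) ^ k) = ψ x := by
  have hcop : Nat.Coprime (Nat.card P) (mp p G) := by
    obtain ⟨n, hn⟩ := IsPGroup.iff_card.1 P.2
    rw [hn]
    exact Nat.Coprime.pow_left _ ((Nat.Prime.coprime_iff_not_dvd hp.out).2 (not_dvd_mp hp.out G))
  obtain ⟨N, hN1, hN2⟩ := Nat.chineseRemainder hcop k 1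
  have hkp : k.Coprime p := by
    rw [Nat.Coprime, hk.gcd_eq, Nat.gcd_one_left]
  have hcard : Nat.card G = Nat.card P * mp p G := by
    rw [P.card_eq_multiplicity]
    exact (Nat.ordProj_mul_ordCompl_eq_self (Nat.card G) p).symm
  have hNc : N.Coprime (Nat.card G) := by
    rw [hcard]
    refine Nat.Coprime.mul_right ?_ ?_
    · rw [Nat.Coprime, hN1.gcd_eq]
      obtain ⟨n, hn⟩ := IsPGroup.iff_card.1 P.2
      rw [hn]
      exact Nat.Coprime.pow_right _ hkp
    · rw [Nat.Coprime, hN2.gcd_eq, Nat.gcd_one_left]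
  let u : (ZMod (Nat.card G))ˣ := ZMod.unitOfCoprime N hNc
  have h5 : ex u ≡ N [MOD Nat.card G] := by
    rw [← ZMod.natCast_eq_natCast_iff, ex_cast]
    rfl
  have h6 : (x : G) ^ ex u = (x : G) ^ k := by
    rw [pow_congr_card _ h5, pow_eq_pow_iff_modEq]
    refine hN1.of_dvd ?_
    rw [Subgroup.orderOf_coe]
    exact orderOf_dvd_natCard x
  rw [← h6]
  refine h u ((mem_JJ u).2 ?_) x
  refine (h5.of_dvd (dd_dvd p G)).trans ?_
  rcases Nat.eq_zero_or_pos ((Nat.card G).factorization p) with h0 | h0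
  · -- `P` is trivial
    have h7 : dd p G ∣ mp p G := by
      have h8 : Nat.card P = 1 := by
        rw [P.card_eq_multiplicity, h0, pow_zero]
      rw [h8, one_mul] at hcard
      rw [← hcard]
      exact dd_dvd p G
    exact hN2.of_dvd h7
  · have h7 : N ≡ 1 [MOD p] := by
      refine (hN1.of_dvd ?_).trans hk
      rw [P.card_eq_multiplicity]
      exact dvd_pow_self p h0.ne'
    have h8 : N ≡ 1 [MOD p * mp p G] :=
      (Nat.modEq_and_modEq_iff_modEq_mul ((Nat.Prime.coprime_iff_not_dvd hp.out).2 (not_dvd_mp hp.out G))).1 ⟨h7, hN2⟩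
    exact h8.of_dvd (dd_dvd' p G)

theorem ex_modEq_one (hpG : p ∣ Nat.card G) {u : (ZMod (Nat.card G))ˣ} (hu : u ∈ JJ p G) : ex u ≡ 1 [MOD p] :=
  ((mem_JJ u).1 hu).of_dvd (Nat.dvd_gcd hpG (Dvd.intro _ rfl))

/-- `hat` is invariant -/
theorem hat_inv (hpG : p ∣ Nat.card G) {P : Sylow p G} (hab : ∀ x ∈ P, ∀ y ∈ P, x * y = y * x) {θ : P → ℂ} (hθ : NInv P θ)
    (hJ : ∀ k : ℕ, k ≡ 1 [MOD p] → ∀ x : P, θ (x ^ k) = θ x) {u : (ZMod (Nat.card G))ˣ} (hu : u ∈ JJ p G) (g : G) :
    hat P θ (g ^ ex u) = hat P θ g := by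
  obtain ⟨x, z, hz, hx⟩ := hat_exists P g
  have h1 : IsPPart p (g ^ ex u) (z ^ ex u) := by
    obtain ⟨y, rfl, hy1, ⟨k, hk⟩, hy2⟩ := hz
    refine ⟨y ^ ex u, (hy1.mul_pow _).symm, hy1.pow_pow _ _, ?_, fun h => hy2 (h.trans (orderOf_pow_dvd _))⟩
    have h2 : orderOf (z ^ ex u) ∣ p ^ k := hk ▸ orderOf_pow_dvd _
    obtain ⟨j, -, hj⟩ := (Nat.dvd_prime_pow hp.out).1 h2
    exact ⟨j, hj⟩
  have h2 : IsConj (z ^ ex u) ((x ^ ex u : P) : G) := by
    obtain ⟨c, hc⟩ := isConj_iff.1 hx
    refine isConj_iff.2 ⟨c, ?_⟩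
    rw [Subgroup.coe_pow, ← hc, conj_pow]
  rw [hat_eq hab hθ h1 h2, hat_eq hab hθ hz hx, hJ _ (ex_modEq_one hpG hu)]

/-! ### the characters of degree divisible by `p` -/

variable {M : Ideal AlgInt}

theorem charDegree_eq {χ : G → ℂ} (hχ : IsIrrCharacter G χ) : χ 1 = (charDegree χ : ℂ) := by
  obtain ⟨n, -, hn⟩ := Core.isIrr_apply_one hχ
  unfold charDegree
  rw [hn]
  simp

theorem PR_of_dvd_degree (hM : IsPModular p M) {P : Sylow p G} (hab : ∀ x ∈ P, ∀ y ∈ P, x * y = y * x) {χ : G → ℂ}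
    (hχ : IsIrrCharacter G χ) (hd : p ∣ charDegree χ) (x : P) : PR p M (χ x) := by
  have := isPrime_of_isPModular hM
  have h1 := Central.isIntegral_centralChar hχ (x : G)
  obtain ⟨m, hm⟩ := hd
  have h2 := charDegree_eq hχ
  have h0 : χ 1 ≠ 0 := Core.isIrr_apply_one_ne_zero hχ
  set n := (Subgroup.centralizer ({(x : G)} : Set G)).index with hn
  have hn0 : (n : ℂ) ≠ 0 := Nat.cast_ne_zero.2 Subgroup.index_ne_zero_of_finite
  have hnp : ¬ p ∣ n := by
    intro h
    have h3 : (P : Subgroup G) ≤ Subgroup.centralizer ({(x : G)} : Set G) := by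
      intro y hy
      rw [Subgroup.mem_centralizer_singleton_iff]
      exact hab _ hy _ x.2
    exact P.not_dvd_index (h.trans (Subgroup.index_dvd_of_le h3))
  have h3 : χ x = p * (m * ((n : ℂ)⁻¹ * centralChar χ x)) := by
    unfold centralChar
    rw [← hn]
    have h4 : (p : ℂ) * m = χ 1 := by
      rw [h2, hm]
      push_cast
      rfl
    rw [← mul_assoc, h4]
    field_simp
  rw [h3]
  exact PR.mk (memLocalRing_mul (memLocalRing_natCast m) (memLocalRing_mul (memLocalRing_inv_natCast hM hnp)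
    (memLocalRing_of_isIntegral h1)))

/-! ### the key sum -/

/-- the restriction to `P` -/
def rs (P : Sylow p G) (χ : G → ℂ) : P → ℂ := fun x => χ x

theorem rs_isCharacter (P : Sylow p G) {χ : G → ℂ} (hχ : IsCharacter G χ) : IsCharacter P (rs P χ) :=
  Core.isCharacter_comp (P : Subgroup G).subtype hχ

theorem gen_of_char {H : Type*} [Group H] {χ : H → ℂ} (hχ : IsCharacter H χ) : IsGeneralizedCharacter H χ :=
  Brauer.isGeneralizedCharacter_of_isCharacter hχ

/-- linearity of the multiplicities -/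
theorem mi_sum {A : Type u} [Group A] [Finite A] {ι : Type*} (s : Finset ι) (m : ι → ℤ) (φ : ι → A → ℂ)
    (hφ : ∀ i ∈ s, IsGeneralizedCharacter A (φ i)) (l : LL p A) :
    mi (fun x => ∑ i ∈ s, (m i : ℂ) * φ i x) l = ∑ i ∈ s, m i * mi (φ i) l := by
  have := Fintype.ofFinite A
  refine mi_eq ?_
  have h1 : (fun x => ∑ i ∈ s, (m i : ℂ) * φ i x) = ∑ i ∈ s, (m i : ℂ) • φ i := by
    funext x
    simp
  rw [h1, ipc_eq, Core.classInner_sum_left]
  push_cast
  refine Finset.sum_congr rfl fun i hi => ?_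
  rw [Core.classInner_smul_left, mi_spec (hφ i hi), ipc_eq]

/-- the multiplicities are invariant -/
theorem mi_rs_pw (hpG : p ∣ Nat.card G) (P : Sylow p G) {u : (ZMod (Nat.card G))ˣ} (hu : u ∈ JJ p G) (χ : IrrCharacter G) (l : LL p P) :
    mi (rs P (pw u χ : G → ℂ)) l = mi (rs P (χ : G → ℂ)) l := by
  have := Fintype.ofFinite P
  have hk := ex_modEq_one hpG hu
  have h1 : (ex u).Coprime (Nat.card P) :=
    Nat.Coprime.coprime_dvd_right (Subgroup.card_subgroup_dvd_card (P : Subgroup G)) (ex_coprime u)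
  unfold mi
  congr 2
  rw [ipc_eq, ipc_eq, Core.classInner_def, Core.classInner_def]
  congr 1
  refine Fintype.sum_equiv (powCoprime h1.symm) _ _ fun g => ?_
  have h2 : ch l (g ^ ex u) = ch l g := by
    unfold ch
    congr 1
    rw [ev_pow, (ZMod.natCast_eq_natCast_iff _ _ _).2 hk, Nat.cast_one, one_mul]
  change (χ : G → ℂ) (((g : G)) ^ ex u) * conj (ch l g) = (χ : G → ℂ) ((g ^ ex u : P) : G) * conj (ch l (g ^ ex u))
  rw [h2, Subgroup.coe_pow]

theorem Pf_rs_pw (hpG : p ∣ Nat.card G) (P : Sylow p G) {u : (ZMod (Nat.card G))ˣ} (hu : u ∈ JJ p G) (χ : IrrCharacter G)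
    (f : LL p P → ZMod p) : Pf f (rs P (pw u χ : G → ℂ)) = Pf f (rs P (χ : G → ℂ)) := by
  have := finite_LL (p := p) (A := P)
  have := Fintype.ofFinite (LL p P)
  rw [Pf_eq, Pf_eq]
  exact Finset.sum_congr rfl fun l _ => by rw [mi_rs_pw hpG P hu]

/-- sums of invariant functions with values in `ZMod p` -/
theorem sum_fixed_zmod {B : Type*} [Group B] [Finite B] (hB : IsPGroup p B) {I : Type*} [Fintype I] [MulAction B I] (f : I → ZMod p)
    (hf : ∀ (a : B) (i : I), f (a • i) = f i) [DecidablePred fun i : I => ∀ a : B, a • i = i] :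
    ∑ i, f i = ∑ i, (if ∀ a : B, a • i = i then f i else 0) := by
  have h1 := sum_modEq_fixed hB (fun i => ((f i).val : ℤ)) fun a i => by rw [hf]
  have h2 := (ZMod.intCast_eq_intCast_iff _ _ _).2 h1
  push_cast at h2
  simpa only [ZMod.natCast_val, ZMod.cast_id', id] using h2

open scoped Classical in
/-- **The key sum.** -/
theorem key_sum (hM : IsPModular p M) (hpG : p ∣ Nat.card G) {P : Sylow p G} (hab : ∀ x ∈ P, ∀ y ∈ P, x * y = y * x)
    {θ : P → ℂ} (hθ : NInv P θ) (hg : IsGeneralizedCharacter P θ) (hJ : ∀ k : ℕ, k ≡ 1 [MOD p] → ∀ x : P, θ (x ^ k) = θ x)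
    {f : LL p P → ZMod p} (hf : f ∈ PP p P) [Fintype (IrrCharacter G)] :
    ∃ m : IrrCharacter G → ℤ, Pf f θ = ∑ χ : IrrCharacter G, if Mem0 p M χ then (m χ : ZMod p) * Pf f (rs P (χ : G → ℂ)) else 0 := by
  have := Fintype.ofFinite G
  have := finite_LL (p := p) (A := P)
  have := Fintype.ofFinite (LL p P)
  have hG := isGeneralizedCharacter_hat hab hθ hg
  choose m hm using fun χ : IrrCharacter G => ipc_isInt hG (Core.isIrr_isCharacter χ.2)
  refine ⟨m, ?_⟩
  -- the restriction of the block part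
  have h1 : θ = fun x : P => ∑ χ ∈ Finset.univ.filter (fun χ : IrrCharacter G => χ ∈ principalBlock M G),
      (m χ : ℂ) * rs P (χ : G → ℂ) x := by
    funext x
    rw [← blockPart_hat hM hab hθ x, blockPart_sum, Finset.sum_filter]
    refine Finset.sum_congr rfl fun χ _ => ?_
    rw [← hm, ipc_eq]
    rfl
  have h2 : ∀ l : LL p P, mi θ l = ∑ χ ∈ Finset.univ.filter (fun χ : IrrCharacter G => χ ∈ principalBlock M G),
      m χ * mi (rs P (χ : G → ℂ)) l := by
    intro l
    conv_lhs => rw [h1]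
    exact mi_sum _ _ _ (fun χ _ => gen_of_char (rs_isCharacter P (Core.isIrr_isCharacter χ.2))) l
  have h3 : Pf f θ = ∑ χ : IrrCharacter G, if χ ∈ principalBlock M G then (m χ : ZMod p) * Pf f (rs P (χ : G → ℂ)) else 0 := by
    rw [Pf_eq, ← Finset.sum_filter]
    have h4 : ∀ l : LL p P, (mi θ l : ZMod p) * f l = ∑ χ ∈ Finset.univ.filter (fun χ : IrrCharacter G => χ ∈ principalBlock M G),
        (m χ : ZMod p) * ((mi (rs P (χ : G → ℂ)) l : ZMod p) * f l) := by
      intro l
      rw [h2]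
      push_cast
      rw [Finset.sum_mul]
      exact Finset.sum_congr rfl fun χ _ => by ring
    rw [Finset.sum_congr rfl fun l _ => h4 l, Finset.sum_comm]
    refine Finset.sum_congr rfl fun χ _ => ?_
    rw [Pf_eq, Finset.mul_sum]
  rw [h3]
  -- the action
  let act0 : MulAction (ZMod (Nat.card G))ˣ (IrrCharacter G) := gact G
  have : NeZero (Nat.card G) := ⟨(Nat.card_pos (α := G)).ne'⟩
  have hsm : ∀ (u : JJ p G) (χ : IrrCharacter G), u • χ = pw u.1 χ := fun _ _ => rfl
  have hminv : ∀ u ∈ JJ p G, ∀ χ, m (pw u χ) = m χ := by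
    intro u hu χ
    have h4 := ip_pw (ψ := hat P θ) u (fun g => hat_inv hpG hab hθ hJ hu g) χ
    have h5 : ipc (hat P θ) (pw u χ : G → ℂ) = ipc (hat P θ) (χ : G → ℂ) := h4
    rw [hm, hm] at h5
    exact_mod_cast h5
  have h4 := sum_fixed_zmod (p := p) (B := JJ p G) (isPGroup_JJ (p := p) (G := G)) (I := IrrCharacter G)
    (fun χ => if χ ∈ principalBlock M G then (m χ : ZMod p) * Pf f (rs P (χ : G → ℂ)) else 0) (fun u χ => by
      simp only [hsm]
      rw [hminv _ u.2, Pf_rs_pw hpG P u.2]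
      simp only [pw_mem_iff])
  rw [h4]
  refine Finset.sum_congr rfl fun χ _ => ?_
  have h5 : (∀ u : JJ p G, u • χ = χ) ↔ Alm p (χ : G → ℂ) := by
    rw [alm_iff]
    exact ⟨fun h u hu => h ⟨u, hu⟩, fun h u => h u.1 u.2⟩
  by_cases h6 : Alm p (χ : G → ℂ)
  · rw [if_pos (h5.2 h6)]
    by_cases h7 : χ ∈ principalBlock M G
    · rw [if_pos h7]
      by_cases h8 : p ∣ charDegree (χ : G → ℂ)
      · rw [if_neg (fun h => h.2.1 h8)]
        have h9 : Pf f (rs P (χ : G → ℂ)) = 0 := by
          refine Pf_eq_zero hM (fun a b => Subtype.ext (hab a a.2 b b.2)) P.2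
            (gen_of_char (rs_isCharacter P (Core.isIrr_isCharacter χ.2))) (fun k hk x => ?_)
            (fun x => PR_of_dvd_degree hM hab χ.2 h8 x) hf
          have h10 := (alm_iff_fun (Core.isIrr_isCharacter χ.2)).1 h6
          exact jfix_pow P h10 hk x
        rw [h9, mul_zero]
      · rw [if_pos ⟨h7, h8, h6⟩]
    · rw [if_neg h7, if_neg (fun h => h7 h.1)]
  · rw [if_neg (fun h => h6 (h5.1 h)), if_neg (fun h => h6 h.2.2)]

/-! ### the action of the normalizer -/

/-- conjugation -/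
def cj (P : Sylow p G) : Subgroup.normalizer ((P : Subgroup G) : Set G) →* MulAut P := (P : Subgroup G).normalizerMonoidHom

theorem cj_apply (P : Sylow p G) (n : Subgroup.normalizer ((P : Subgroup G) : Set G)) (x : P) :
    ((cj P n x : P) : G) = n * x * (n : G)⁻¹ := rfl

/-- the action on the linear characters -/
def nsm {P : Sylow p G} (n : Subgroup.normalizer ((P : Subgroup G) : Set G)) (l : LL p P) : LL p P :=
  l.comp ((cj P n)⁻¹ : MulAut P).toMonoidHom

theorem ev_nsm {P : Sylow p G} (n : Subgroup.normalizer ((P : Subgroup G) : Set G)) (l : LL p P) (x : P) :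
    ev (nsm n l) (cj P n x) = ev l x := by
  change ev l ((cj P n)⁻¹ (cj P n x)) = _
  rw [MulAut.inv_apply_self]

theorem ev_nsm_inv {P : Sylow p G} (n : Subgroup.normalizer ((P : Subgroup G) : Set G)) (l : LL p P) (x : P) :
    ev (nsm n⁻¹ l) x = ev l (cj P n x) := by
  change ev l ((cj P n⁻¹)⁻¹ x) = _
  rw [map_inv, inv_inv]

/-- the action -/
@[instance_reducible]
def nact (P : Sylow p G) : MulAction (Subgroup.normalizer ((P : Subgroup G) : Set G)) (LL p P) where
  smul n l := nsm n l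
  one_smul l := by
    refine ev_ext fun x => ?_
    change ev l ((cj P 1)⁻¹ x) = ev l x
    rw [map_one, inv_one, MulAut.one_apply]
  mul_smul m n l := by
    refine ev_ext fun x => ?_
    change ev l ((cj P (m * n))⁻¹ x) = ev l ((cj P n)⁻¹ ((cj P m)⁻¹ x))
    rw [map_mul, _root_.mul_inv_rev, MulAut.mul_apply]

/-- invariance of functions -/
def WInv (P : Sylow p G) (f : LL p P → ZMod p) : Prop :=
  ∀ n ∈ Subgroup.normalizer ((P : Subgroup G) : Set G), ∀ l l' : LL p P,
    (∀ x y : P, n * (x : G) * n⁻¹ = (y : G) → ev l' y = ev l x) → f l' = f l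

theorem WInv.nsm {P : Sylow p G} {f : LL p P → ZMod p} (hf : WInv P f) (n : Subgroup.normalizer ((P : Subgroup G) : Set G))
    (l : LL p P) : f (AP.nsm n l) = f l := by
  refine hf n n.2 l (AP.nsm n l) fun x y hxy => ?_
  have h1 : y = cj P n x := Subtype.ext hxy.symm
  rw [h1, ev_nsm]

section orb

variable (P : Sylow p G) [Fintype (LL p P)]

open scoped Classical in
/-- the orbit -/
noncomputable def ob (l : LL p P) : Finset (LL p P) := Finset.univ.filter fun m => ∃ n : Subgroup.normalizer ((P : Subgroup G) : Set G), nsm n l = m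

theorem mem_ob {l m : LL p P} : m ∈ ob P l ↔ ∃ n : Subgroup.normalizer ((P : Subgroup G) : Set G), nsm n l = m := by
  simp [ob]

/-- the orbit sum -/
noncomputable def th (l : LL p P) : P → ℂ := fun x => ∑ m ∈ ob P l, ch m x

theorem th_isCharacter (l : LL p P) : IsCharacter P (th P l) := by
  have h1 : th P l = ∑ m ∈ ob P l, ch m := by
    funext x
    simp [th]
  rw [h1]
  exact Core.isCharacter_sum _ fun m _ => ch_isCharacter m

theorem th_NInv (l : LL p P) : NInv P (th P l) := by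
  intro n hn x y hxy
  have h1 : y = cj P ⟨n, hn⟩ x := Subtype.ext hxy.symm
  unfold th
  let act0 := nact P
  have hmul : ∀ (a b : Subgroup.normalizer ((P : Subgroup G) : Set G)) (l : LL p P), nsm (a * b) l = nsm a (nsm b l) :=
    fun a b l => (nact P).mul_smul a b l
  have hone : ∀ l : LL p P, nsm (1 : Subgroup.normalizer ((P : Subgroup G) : Set G)) l = l := fun l => (nact P).one_smul l
  refine Finset.sum_bij' (fun m _ => nsm (⟨n, hn⟩ : Subgroup.normalizer ((P : Subgroup G) : Set G))⁻¹ m)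
    (fun m _ => nsm (⟨n, hn⟩ : Subgroup.normalizer ((P : Subgroup G) : Set G)) m) (fun m hm => ?_) (fun m hm => ?_) (fun m _ => ?_)
    (fun m _ => ?_) fun m _ => ?_
  · rw [mem_ob] at hm ⊢
    obtain ⟨k, rfl⟩ := hm
    exact ⟨_, hmul _ _ _⟩
  · rw [mem_ob] at hm ⊢
    obtain ⟨k, rfl⟩ := hm
    exact ⟨_, hmul _ _ _⟩
  · rw [← hmul, mul_inv_cancel, hone]
  · rw [← hmul, inv_mul_cancel, hone]
  · unfold ch
    rw [ev_nsm_inv, h1]

theorem th_J (l : LL p P) (k : ℕ) (hk : k ≡ 1 [MOD p]) (x : P) : th P l (x ^ k) = th P l x := by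
  unfold th
  refine Finset.sum_congr rfl fun m _ => ?_
  unfold ch
  congr 1
  rw [ev_pow, (ZMod.natCast_eq_natCast_iff _ _ _).2 hk, Nat.cast_one, one_mul]

theorem ch_isIrr {A : Type u} [Group A] (l : LL p A) : IsIrrCharacter A (ch l) := by
  have h : IsIrrCharacter A (fun g => ((MonoidHom.toHomUnits ⟨⟨ch l, ch_one l⟩, ch_mul l⟩ : A →* ℂˣ) g : ℂ)) :=
    Linear.isIrrCharacter_hom _
  exact h

open scoped Classical in
theorem mi_th (l m : LL p P) : mi (th P l) m = if m ∈ ob P l then 1 else 0 := by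
  have := Fintype.ofFinite P
  refine mi_eq ?_
  have h1 : th P l = ∑ m ∈ ob P l, ch m := by
    funext x
    simp [th]
  rw [ipc_eq, h1, Core.classInner_sum_left]
  have h2 : ∀ k : LL p P, classInner (ch k) (ch m) = if k = m then (1 : ℂ) else 0 := by
    intro k
    split_ifs with h3
    · rw [h3, Core.classInner_irr_self (ch_isIrr m)]
    · exact Core.classInner_irr_ne (ch_isIrr k) (ch_isIrr m) fun h4 => h3 (ch_injective h4)
  rw [Finset.sum_congr rfl fun k _ => h2 k, Finset.sum_ite_eq']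
  split_ifs <;> simp

theorem Pf_th {f : LL p P → ZMod p} (hf : WInv P f) (l : LL p P) : Pf f (th P l) = (ob P l).card * f l := by
  classical
  rw [Pf_eq]
  have h1 : ∀ m : LL p P, (mi (th P l) m : ZMod p) * f m = if m ∈ ob P l then f l else 0 := by
    intro m
    rw [mi_th]
    split_ifs with h2
    · obtain ⟨n, rfl⟩ := (mem_ob P).1 h2
      rw [Int.cast_one, one_mul, hf.nsm]
    · simp
  rw [Finset.sum_congr rfl fun m _ => h1 m, Finset.sum_ite_mem, Finset.univ_inter, Finset.sum_const, nsmul_eq_mul]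

theorem card_ob (hab : ∀ x ∈ P, ∀ y ∈ P, x * y = y * x) (l : LL p P) : ¬ p ∣ (ob P l).card := by
  classical
  let act0 := nact P
  have h1 : (ob P l).card = (MulAction.stabilizer (Subgroup.normalizer ((P : Subgroup G) : Set G)) l).index := by
    rw [MulAction.index_stabilizer, Set.ncard_eq_toFinset_card']
    congr 1
    ext m
    rw [mem_ob, Set.mem_toFinset]
    exact Iff.rfl
  rw [h1]
  intro h
  have h2 : (P : Subgroup G).subgroupOf (Subgroup.normalizer ((P : Subgroup G) : Set G)) ≤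
      MulAction.stabilizer (Subgroup.normalizer ((P : Subgroup G) : Set G)) l := by
    intro n hn
    rw [Subgroup.mem_subgroupOf] at hn
    rw [MulAction.mem_stabilizer_iff]
    refine ev_ext fun x => ?_
    have h3 : cj P n x = x := by
      apply Subtype.ext
      rw [cj_apply, hab _ hn _ x.2, mul_inv_cancel_right]
    have h4 := ev_nsm n l x
    rw [h3] at h4
    exact h4
  have h3 : ((P : Subgroup G).subgroupOf (Subgroup.normalizer ((P : Subgroup G) : Set G))).index ∣ (P : Subgroup G).index :=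
    Subgroup.relIndex_dvd_index_of_le Subgroup.le_normalizer
  exact P.not_dvd_index ((h.trans (Subgroup.index_dvd_of_le h2)).trans h3)

end orb

/-! ### the theorem -/

/-- rational on `P` -/
def RatP (P : Sylow p G) (χ : G → ℂ) : Prop := ∀ j : ℕ, j.Coprime p → ∀ x : P, χ ((x : G) ^ j) = χ x

/-- **The rank theorem.** -/
theorem rank_le (hM : IsPModular p M) (hpG : p ∣ Nat.card G) {P : Sylow p G} (hab : ∀ x ∈ P, ∀ y ∈ P, x * y = y * x)
    (V : Submodule (ZMod p) (LL p P → ZMod p)) (hV : V ≤ PP p P) (hW : ∀ f ∈ V, WInv P f) :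
    Module.finrank (ZMod p) V ≤ Nat.card {χ : IrrCharacter G // Mem0 p M χ ∧ ¬ RatP P (χ : G → ℂ)} := by
  classical
  have hfin : Finite (IrrCharacter G) := Core.finite_irr
  have := Fintype.ofFinite (IrrCharacter G)
  have := finite_LL (p := p) (A := P)
  have := Fintype.ofFinite (LL p P)
  have := Fintype.ofFinite {χ : IrrCharacter G // Mem0 p M χ ∧ ¬ RatP P (χ : G → ℂ)}
  let T : V →ₗ[ZMod p] ({χ : IrrCharacter G // Mem0 p M χ ∧ ¬ RatP P (χ : G → ℂ)} → ZMod p) :=
    LinearMap.pi fun χ => (PfL (rs P (χ.1 : G → ℂ))).comp V.subtype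
  have hT : Function.Injective T := by
    rw [← LinearMap.ker_eq_bot, LinearMap.ker_eq_bot']
    intro f hf
    apply Subtype.ext
    funext l
    obtain ⟨m, hm⟩ := key_sum hM hpG hab (th_NInv P l) (gen_of_char (th_isCharacter P l)) (th_J P l) (hV f.2)
    have h1 : Pf (f : LL p P → ZMod p) (th P l) = 0 := by
      rw [hm]
      refine Finset.sum_eq_zero fun χ _ => ?_
      split_ifs with h2
      · have h3 : Pf (f : LL p P → ZMod p) (rs P (χ : G → ℂ)) = 0 := by
          by_cases h4 : RatP P (χ : G → ℂ)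
          · exact Pf_rat P.2 (fun j hj x => h4 j hj x) (hV f.2)
          · exact congrFun hf ⟨χ, h2, h4⟩
        rw [h3, mul_zero]
      · rfl
    rw [Pf_th P (hW f f.2) l] at h1
    rcases mul_eq_zero.1 h1 with h2 | h2
    · exact absurd ((ZMod.natCast_eq_zero_iff _ _).1 h2) (card_ob P hab l)
    · exact h2
  have h1 := LinearMap.finrank_le_finrank_of_injective hT
  rwa [Module.finrank_fintype_fun_eq_card, ← Nat.card_eq_fintype_card] at h1

theorem WInv.pow {P : Sylow p G} {f : LL p P → ZMod p} (hf : WInv P f) (i : ℕ) : WInv P (f ^ i) := by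
  intro n hn l l' h
  rw [Pi.pow_apply, Pi.pow_apply, hf n hn l l' h]

/-- the invariant functions -/
def invSp (P : Sylow p G) : Submodule (ZMod p) (LL p P → ZMod p) where
  carrier := {f | WInv P f}
  add_mem' {f g} hf hg := fun n hn l l' h => by
    rw [Pi.add_apply, Pi.add_apply, hf n hn l l' h, hg n hn l l' h]
  zero_mem' := fun n hn l l' h => rfl
  smul_mem' c f hf := fun n hn l l' h => by
    rw [Pi.smul_apply, Pi.smul_apply, hf n hn l l' h]

theorem mem_invSp {P : Sylow p G} {f : LL p P → ZMod p} : f ∈ invSp P ↔ WInv P f := Iff.rfl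

/-- **Linearly independent invariants.** -/
theorem card_le_of_linInd (hM : IsPModular p M) (hpG : p ∣ Nat.card G) {P : Sylow p G} (hab : ∀ x ∈ P, ∀ y ∈ P, x * y = y * x)
    {ι : Type*} [Finite ι] {f : ι → LL p P → ZMod p} (hf : LinearIndependent (ZMod p) f) (hP : ∀ i, f i ∈ PP p P)
    (hW : ∀ i, WInv P (f i)) : Nat.card ι ≤ Nat.card {χ : IrrCharacter G // Mem0 p M χ ∧ ¬ RatP P (χ : G → ℂ)} := by
  have := Fintype.ofFinite ι
  rw [Nat.card_eq_fintype_card (α := ι), ← finrank_span_eq_card hf]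
  refine rank_le hM hpG hab _ (Submodule.span_le.2 ?_) fun g hg => ?_
  · rintro g ⟨i, rfl⟩
    exact hP i
  · have h1 : Submodule.span (ZMod p) (Set.range f) ≤ invSp P := by
      refine Submodule.span_le.2 ?_
      rintro g ⟨i, rfl⟩
      exact hW i
    exact h1 hg

/-- the powers of a homogeneous polynomial -/
theorem pow_linInd {A : Type u} [Group A] [Finite A] {e : ℕ} {f : LL p A → ZMod p} (hf : f ∈ Pol p A e) (h0 : f ≠ 0) (he : 1 ≤ e) {k : ℕ}
    (hk : k * e + 2 ≤ p) : LinearIndependent (ZMod p) fun i : Fin k => f ^ ((i : ℕ) + 1) := by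
  obtain ⟨g, hg, hg'⟩ := exists_root hp.out
  let T : Module.End (ZMod p) (LL p A → ZMod p) := LinearMap.funLeft (ZMod p) (ZMod p) fun l => l ^ g
  refine Module.End.eigenvectors_linearIndependent' T (fun i : Fin k => (g : ZMod p) ^ (((i : ℕ) + 1) * e)) (fun i j hij => ?_) _
    fun i => ?_
  · -- injectivity
    have key : ∀ i j : Fin k, (i : ℕ) < j → (g : ZMod p) ^ (((i : ℕ) + 1) * e) ≠ (g : ZMod p) ^ (((j : ℕ) + 1) * e) := by
      intro i j hij h
      have hg0 : (g : ZMod p) ≠ 0 := by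
        intro h0
        rw [ZMod.natCast_eq_zero_iff] at h0
        exact hp.out.one_lt.ne' (Nat.Coprime.eq_one_of_dvd hg.symm h0)
      have h1 : ((j : ℕ) + 1) * e = ((i : ℕ) + 1) * e + ((j : ℕ) - i) * e := by
        rw [← add_mul]
        congr 1
        omega
      rw [h1, pow_add] at h
      have h2 : (g : ZMod p) ^ (((j : ℕ) - i) * e) = 1 := by
        have h3 := mul_left_cancel₀ (pow_ne_zero (((i : ℕ) + 1) * e) hg0) ((mul_one _).trans h)
        exact h3.symm
      refine hg' _ (Nat.mul_ne_zero (by omega) (by omega)) ?_ h2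
      have h4 : ((j : ℕ) - i) * e ≤ k * e := Nat.mul_le_mul_right _ (by omega)
      omega
    rcases lt_trichotomy (i : ℕ) j with h | h | h
    · exact absurd hij (key i j h)
    · exact Fin.ext h
    · exact absurd hij.symm (key j i h)
  · refine Module.End.hasEigenvector_iff.2 ⟨?_, ?_⟩
    · rw [Module.End.mem_eigenspace_iff]
      funext l
      change (f ^ ((i : ℕ) + 1)) (l ^ g) = (g : ZMod p) ^ (((i : ℕ) + 1) * e) * (f ^ ((i : ℕ) + 1)) l
      exact Pol_apply_pow (Pol_pow hf _) l g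
    · intro h
      apply h0
      funext l
      have h1 := congrFun h l
      exact pow_eq_zero_iff (Nat.succ_ne_zero _) |>.1 h1

/-- **One homogeneous invariant.** -/
theorem card_nonrat (hM : IsPModular p M) (hpG : p ∣ Nat.card G) {P : Sylow p G} (hab : ∀ x ∈ P, ∀ y ∈ P, x * y = y * x)
    {e : ℕ} {f : LL p P → ZMod p} (hf : f ∈ Pol p P e) (h0 : f ≠ 0) (he : 1 ≤ e) (hW : WInv P f) :
    (p - 2) / e ≤ Nat.card {χ : IrrCharacter G // Mem0 p M χ ∧ ¬ RatP P (χ : G → ℂ)} := by
  have h2 := hp.out.two_le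
  have hk : (p - 2) / e * e + 2 ≤ p := by
    have := Nat.div_mul_le_self (p - 2) e
    omega
  have h1 := card_le_of_linInd hM hpG hab (pow_linInd hf h0 he hk) (fun i => ?_) (fun i => hW.pow _)
  · rwa [Nat.card_eq_fintype_card (α := Fin _), Fintype.card_fin] at h1
  · refine Pol_le_PP ?_ ?_ (Pol_pow hf ((i : ℕ) + 1))
    · exact Nat.mul_pos (Nat.succ_pos _) he
    · have h3 : ((i : ℕ) + 1) * e ≤ (p - 2) / e * e := Nat.mul_le_mul_right _ i.2
      omega

/-- the number of all members -/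
theorem x0_eq_add (P : Sylow p G) : x0 p M G = Nat.card {χ : IrrCharacter G // Mem0 p M χ ∧ RatP P (χ : G → ℂ)} +
    Nat.card {χ : IrrCharacter G // Mem0 p M χ ∧ ¬ RatP P (χ : G → ℂ)} := by
  classical
  have hfin : Finite (IrrCharacter G) := Core.finite_irr
  have := Fintype.ofFinite (IrrCharacter G)
  unfold x0
  rw [Nat.card_eq_fintype_card, Nat.card_eq_fintype_card, Nat.card_eq_fintype_card, Fintype.card_subtype, Fintype.card_subtype,
    Fintype.card_subtype, ← Finset.card_filter_add_card_filter_not (s := Finset.univ.filter fun χ : IrrCharacter G => Mem0 p M χ)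
      (fun χ => RatP P (χ : G → ℂ)), Finset.filter_filter, Finset.filter_filter]

/-- **`r` rational members and one invariant of degree `e`.** -/
theorem x0_ge (hM : IsPModular p M) (hpG : p ∣ Nat.card G) {P : Sylow p G} (hab : ∀ x ∈ P, ∀ y ∈ P, x * y = y * x)
    {e : ℕ} {f : LL p P → ZMod p} (hf : f ∈ Pol p P e) (h0 : f ≠ 0) (he : 1 ≤ e) (hW : WInv P f) {r : ℕ}
    (hr : r ≤ Nat.card {χ : IrrCharacter G // Mem0 p M χ ∧ RatP P (χ : G → ℂ)}) : r + (p - 2) / e ≤ x0 p M G := by
  rw [x0_eq_add P]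
  exact Nat.add_le_add hr (card_nonrat hM hpG hab hf h0 he hW)

end Cfsg.Agent.H603.AP
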