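import Cfsg.Agent.H603.AP.Rank

/-!
# Invariant forms from conjugacy classes (helper603, for S4791 + S4927)

* `cf c k l = ∑_{y ∈ P} c y (l y) ^ k` for a function `c : P → ZMod p`; `cf_mem : cf c k ∈ Pol p P k`; `cf_WInv` if `c` is
  `N_G(P)`-stable.
* `card_nonrat_of_class` : `x ∈ P`, `l` a homomorphism `P → ZMod p` with `∑_{y ∈ P, y ~ x} (l y) ^ e ≠ 0`, `1 ≤ e`: at least
  `(p - 2) / e` members of `X0` are not rational on `P`; `x0_ge_of_class`.
* `linInd_of_pt` : a criterion for the linear independence of two forms.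
-/

set_option autoImplicit false
set_option linter.unusedSectionVars false

open scoped ComplexConjugate

namespace Cfsg.Agent.H603.AP

open Cfsg
open Cfsg.Agent.H674.XZ

universe u

section gen

variable {p : ℕ} {A : Type u} [Group A]

theorem Pol_sum {ι : Type*} (s : Finset ι) {k : ℕ} {f : ι → LL p A → ZMod p} (h : ∀ i ∈ s, f i ∈ Pol p A k) :
    (fun l => ∑ i ∈ s, f i l) ∈ Pol p A k := by
  have h1 : (fun l => ∑ i ∈ s, f i l) = ∑ i ∈ s, f i := by
    funext l
    rw [Finset.sum_apply]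
  rw [h1]
  exact Submodule.sum_mem _ h

theorem evpow_mem (x : A) (k : ℕ) : (fun l => ev l x ^ k) ∈ Pol p A k := by
  have h := Pol_pow (ev_mem (p := p) x) k
  rwa [mul_one] at h

end gen

variable {p : ℕ} [hp : Fact p.Prime] {G : Type u} [Group G] [Finite G] {M : Ideal AlgInt}

/-- the form of the function `c` on `P` -/
noncomputable def cf {P : Sylow p G} (c : P → ZMod p) (k : ℕ) (l : LL p P) : ZMod p :=
  letI := Fintype.ofFinite P
  ∑ y : P, c y * ev l y ^ k

theorem cf_eq {P : Sylow p G} [i : Fintype P] (c : P → ZMod p) (k : ℕ) (l : LL p P) : cf c k l = ∑ y : P, c y * ev l y ^ k := by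
  have h : Fintype.ofFinite P = i := Subsingleton.elim _ _
  unfold cf
  rw [h]

theorem cf_mem {P : Sylow p G} (c : P → ZMod p) (k : ℕ) : (cf c k : LL p P → ZMod p) ∈ Pol p P k := by
  have := Fintype.ofFinite P
  have h1 : (cf c k : LL p P → ZMod p) = fun l => ∑ y : P, (c y • fun l => ev l y ^ k) l := by
    funext l
    rw [cf_eq]
    rfl
  rw [h1]
  exact Pol_sum _ fun y _ => Submodule.smul_mem _ _ (evpow_mem y k)

theorem cf_WInv {P : Sylow p G} {c : P → ZMod p} (hc : NInv P c) (k : ℕ) : WInv P (cf c k) := by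
  have := Fintype.ofFinite P
  intro n hn l l' h
  rw [cf_eq, cf_eq]
  refine (Fintype.sum_equiv (cj P ⟨n, hn⟩).toEquiv _ _ fun y => ?_).symm
  have h1 : ev l' (cj P ⟨n, hn⟩ y) = ev l y := h y _ rfl
  have h2 : c (cj P ⟨n, hn⟩ y) = c y := hc n hn y _ rfl
  change c y * ev l y ^ k = c (cj P ⟨n, hn⟩ y) * ev l' (cj P ⟨n, hn⟩ y) ^ k
  rw [h1, h2]

open scoped Classical in
/-- the class function of a class -/
noncomputable def cls (P : Sylow p G) (x : G) : P → ZMod p := fun y => if IsConj x (y : G) then 1 else 0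

theorem cls_NInv (P : Sylow p G) (x : G) : NInv P (cls P x) := by
  intro n _ y z h
  unfold cls
  have h1 : IsConj (y : G) (z : G) := isConj_iff.2 ⟨n, h⟩
  by_cases h3 : IsConj x (y : G)
  · rw [if_pos h3, if_pos (h3.trans h1)]
  · rw [if_neg h3, if_neg fun h => h3 (h.trans h1.symm)]

open scoped Classical in
theorem cf_cls {P : Sylow p G} [Fintype P] (x : G) (k : ℕ) (l : LL p P) :
    cf (cls P x) k l = ∑ y ∈ Finset.univ.filter (fun y : P => IsConj x (y : G)), ev l y ^ k := by
  rw [cf_eq, Finset.sum_filter]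
  refine Finset.sum_congr rfl fun y _ => ?_
  unfold cls
  split_ifs
  · rw [one_mul]
  · rw [zero_mul]

open scoped Classical in
/-- **The conjugates of one element.** -/
theorem card_nonrat_of_class (hM : IsPModular p M) (hpG : p ∣ Nat.card G) {P : Sylow p G}
    (hab : ∀ x ∈ P, ∀ y ∈ P, x * y = y * x) [Fintype P] {e : ℕ} (he : 1 ≤ e) (x : G) (l : LL p P)
    (h : ∑ y ∈ Finset.univ.filter (fun y : P => IsConj x (y : G)), ev l y ^ e ≠ 0) :
    (p - 2) / e ≤ Nat.card {χ : IrrCharacter G // Mem0 p M χ ∧ ¬ RatP P (χ : G → ℂ)} :=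
  card_nonrat hM hpG hab (cf_mem (cls P x) e) (fun h0 => h (by rw [← cf_cls, h0]; rfl)) he (cf_WInv (cls_NInv P x) e)

open scoped Classical in
theorem x0_ge_of_class (hM : IsPModular p M) (hpG : p ∣ Nat.card G) {P : Sylow p G}
    (hab : ∀ x ∈ P, ∀ y ∈ P, x * y = y * x) [Fintype P] {e : ℕ} (he : 1 ≤ e) (x : G) (l : LL p P)
    (h : ∑ y ∈ Finset.univ.filter (fun y : P => IsConj x (y : G)), ev l y ^ e ≠ 0) {r : ℕ}
    (hr : r ≤ Nat.card {χ : IrrCharacter G // Mem0 p M χ ∧ RatP P (χ : G → ℂ)}) : r + (p - 2) / e ≤ x0 p M G :=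
  x0_ge hM hpG hab (cf_mem (cls P x) e) (fun h0 => h (by rw [← cf_cls, h0]; rfl)) he (cf_WInv (cls_NInv P x) e) hr

/-- two functions with different quotients at two points are linearly independent -/
theorem linInd_of_pt {L : Type*} {f g : L → ZMod p} {l m : L} (h : f l * g m - f m * g l ≠ 0) :
    LinearIndependent (ZMod p) ![f, g] := by
  rw [LinearIndependent.pair_iff]
  intro s t hst
  have h1 := congrFun hst l
  have h2 := congrFun hst m
  simp only [Pi.add_apply, Pi.smul_apply, smul_eq_mul, Pi.zero_apply] at h1 h2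
  have hs : s * (f l * g m - f m * g l) = 0 := by linear_combination g m * h1 - g l * h2
  have ht : t * (f l * g m - f m * g l) = 0 := by linear_combination f l * h2 - f m * h1
  exact ⟨(mul_eq_zero.1 hs).resolve_right h, (mul_eq_zero.1 ht).resolve_right h⟩

end Cfsg.Agent.H603.AP
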