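import Cfsg.Agent.H603.AP.Mom
import Cfsg.Agent.Characters.CCBasic
import Cfsg.Agent.Characters.Brauer

/-!
# Multiplicities of the linear characters of exponent `p` (helper603, for S4791 + S4927)

`A` a finite abelian `p`-group.

* `mi φ l : ℤ` : the multiplicity of `ch l` in the generalized character `φ`; `mi_spec`.
* `dual_PR` : if `φ` takes values in `p R` and `φ (x ^ k) = φ x` for `k ≡ 1` modulo `p` then the part of `φ` spanned by the
  `ch l` takes values in `p R`.
* `Pol p A k` : functions on `LL p A` which are homogeneous polynomials of degree `k`; `Pf f φ = ∑_l mi φ l f l`;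
  `Pf_eq_zero` : `Pf f φ = 0` for `f` of degree at most `p - 2`, `φ` as in `dual_PR`.
* `Pf_rat` : `Pf f φ = 0` if `φ (x ^ j) = φ x` for all `j` prime to `p` and `f` is homogeneous of degree `1, ..., p - 2`.
-/

set_option autoImplicit false
set_option linter.unusedSectionVars false

open scoped ComplexConjugate

namespace Cfsg.Agent.H603.AP

open Cfsg
open Cfsg.Agent.Blocks Cfsg.Agent.Blocks.Local Cfsg.Agent.Characters

universe u

variable {p : ℕ} [hp : Fact p.Prime] {A : Type u} [Group A] [Finite A]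

/-- the inner product -/
noncomputable def ipc (φ ψ : A → ℂ) : ℂ := @classInner A _ (Fintype.ofFinite A) φ ψ

theorem ipc_eq [i : Fintype A] (ψ χ : A → ℂ) : ipc ψ χ = classInner ψ χ := by
  have h : Fintype.ofFinite A = i := Subsingleton.elim _ _
  unfold ipc
  rw [h]

/-- units valued -/
noncomputable def chU (l : LL p A) : A →* ℂˣ := MonoidHom.toHomUnits ⟨⟨ch l, ch_one l⟩, ch_mul l⟩

theorem chU_apply (l : LL p A) (x : A) : (chU l x : ℂ) = ch l x := rfl

theorem ch_isCharacter (l : LL p A) : IsCharacter A (ch l) := Linear.isCharacter_hom (chU l)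

theorem ch_injective : Function.Injective (ch : LL p A → A → ℂ) := by
  intro l m h
  refine ev_ext fun x => ?_
  have h1 := congrFun h x
  unfold ch at h1
  exact ZMod.injective_stdAddChar h1

theorem chU_injective : Function.Injective (chU : LL p A → A →* ℂˣ) := by
  intro l m h
  refine ch_injective (funext fun x => ?_)
  rw [← chU_apply, h, chU_apply]

theorem ch_pow (l : LL p A) (x : A) : ch l x ^ p = 1 := by
  unfold ch
  rw [← AddChar.map_nsmul_eq_pow, nsmul_eq_mul, ZMod.natCast_self, zero_mul, AddChar.map_zero_eq_one]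

theorem chU_pow (l : LL p A) : chU l ^ p = 1 := by
  ext x
  rw [MonoidHom.pow_apply, Units.val_pow_eq_pow_val, chU_apply, ch_pow]
  rfl

theorem exists_chU {r : A →* ℂˣ} (hr : r ^ p = 1) : ∃ l : LL p A, chU l = r := by
  have h1 : ∀ x : A, ∃ t : ZMod p, ZMod.stdAddChar (N := p) t = (r x : ℂ) := by
    intro x
    have h2 : (r x : ℂ) ^ p = 1 := by
      rw [← Units.val_pow_eq_pow_val, ← MonoidHom.pow_apply, hr]
      rfl
    obtain ⟨i, hi, hi'⟩ := (zt_prim p).eq_pow_of_pow_eq_one h2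
    refine ⟨(i : ZMod p), ?_⟩
    rw [← hi', std_eq_pow, ZMod.val_natCast, Nat.mod_eq_of_lt hi]
  choose f hf using h1
  let l : LL p A := MonoidHom.mk' (fun x => Multiplicative.ofAdd (f x)) fun x y => by
    rw [← ofAdd_add]
    congr 1
    refine ZMod.injective_stdAddChar (N := p) ?_
    rw [AddChar.map_add_eq_mul, hf, hf, hf, map_mul, Units.val_mul]
  refine ⟨l, ?_⟩
  ext x
  rw [chU_apply]
  exact hf x

/-- the multiplicity -/
noncomputable def mi (φ : A → ℂ) (l : LL p A) : ℤ := ⌊(ipc φ (ch l)).re⌋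

theorem ipc_isInt {φ : A → ℂ} (hφ : IsGeneralizedCharacter A φ) {ψ : A → ℂ} (hψ : IsCharacter A ψ) :
    ∃ n : ℤ, ipc φ ψ = n := by
  have := Fintype.ofFinite A
  obtain ⟨α, β, hα, hβ, rfl⟩ := hφ
  obtain ⟨n, hn⟩ := Core.classInner_isNat hα hψ
  obtain ⟨m, hm⟩ := Core.classInner_isNat hβ hψ
  refine ⟨n - m, ?_⟩
  rw [ipc_eq, Core.classInner_sub_left, hn, hm]
  push_cast
  rfl

theorem mi_spec {φ : A → ℂ} (hφ : IsGeneralizedCharacter A φ) (l : LL p A) : (mi φ l : ℂ) = ipc φ (ch l) := by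
  obtain ⟨n, hn⟩ := ipc_isInt hφ (ch_isCharacter l)
  unfold mi
  rw [hn]
  simp

theorem mi_eq {φ : A → ℂ} {l : LL p A} {n : ℤ} (h : ipc φ (ch l) = n) : mi φ l = n := by
  unfold mi
  rw [h]
  simp

/-! ### the dual group -/

variable (hab : ∀ a b : A, a * b = b * a)

include hab in
theorem expansion [Fintype (A →* ℂˣ)] (φ : A → ℂ) (x : A) : φ x = ∑ r : A →* ℂˣ, ipc φ (fun y => (r y : ℂ)) * (r x : ℂ) := by
  have := Fintype.ofFinite A
  have hfin : Finite (IrrCharacter A) := Core.finite_irr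
  have := Fintype.ofFinite (IrrCharacter A)
  have h1 : IsClassFunction A φ := fun g h => by rw [hab h g, mul_inv_cancel_right]
  have h2 := Core.classFunction_eq_sum h1
  let e : (A →* ℂˣ) ≃ IrrCharacter A :=
    (Linear.linearEquiv A).trans (Equiv.subtypeUnivEquiv (fun χ => CCBasic.irr_apply_one_of_comm hab χ.2))
  have he : ∀ (r : A →* ℂˣ), ((e r : IrrCharacter A) : A → ℂ) = fun y => (r y : ℂ) := fun r => rfl
  conv_lhs => rw [h2]
  rw [Finset.sum_apply]
  refine (Fintype.sum_equiv e _ _ fun r => ?_).symm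
  rw [Pi.smul_apply, he, smul_eq_mul, ipc_eq]

/-- the exponents -/
theorem ipc_pow {φ : A → ℂ} {k : ℕ} (hk : k.Coprime (Nat.card A)) (hφ : ∀ x, φ (x ^ k) = φ x) (r : A →* ℂˣ) :
    ipc φ (fun y => ((r ^ k) y : ℂ)) = ipc φ (fun y => (r y : ℂ)) := by
  have := Fintype.ofFinite A
  rw [ipc_eq, ipc_eq, Core.classInner_def, Core.classInner_def]
  congr 1
  refine Fintype.sum_equiv (powCoprime hk.symm) _ _ fun g => ?_
  change φ g * conj (((r ^ k) g : ℂˣ) : ℂ) = φ (g ^ k) * conj ((r (g ^ k) : ℂˣ) : ℂ)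
  rw [hφ, MonoidHom.pow_apply, map_pow]

/-- sums over subgroups -/
theorem sum_subgroup {D : Type*} [CommGroup D] (C : Subgroup D) [Fintype C] (e : D →* ℂˣ) :
    ∑ r : C, (e r : ℂ) = 0 ∨ ∑ r : C, (e r : ℂ) = Fintype.card C := by
  by_cases h : ∀ r : C, (e r : ℂ) = 1
  · right
    rw [Finset.sum_congr rfl fun r _ => h r]
    simp
  · left
    push Not at h
    obtain ⟨s, hs⟩ := h
    have h1 : (e s : ℂ) * ∑ r : C, (e r : ℂ) = ∑ r : C, (e r : ℂ) := by
      rw [Finset.mul_sum]
      refine Fintype.sum_equiv (Equiv.mulLeft s) _ _ fun r => ?_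
      rw [Equiv.coe_mulLeft, Subgroup.coe_mul, map_mul, Units.val_mul]
    have h2 : ((e s : ℂ) - 1) * ∑ r : C, (e r : ℂ) = 0 := by
      rw [sub_mul, one_mul, h1, sub_self]
    rcases mul_eq_zero.1 h2 with h3 | h3
    · exact absurd (sub_eq_zero.1 h3) hs
    · exact h3

/-- the group generated by the `p`-th power does not change -/
theorem zpowers_eq {D : Type*} [CommGroup D] [Finite D] (hD : IsPGroup p D) {r s : D} (h : r⁻¹ * s ∈ Subgroup.zpowers (r ^ p)) :
    Subgroup.zpowers (s ^ p) = Subgroup.zpowers (r ^ p) := by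
  obtain ⟨j, hj⟩ := Subgroup.mem_zpowers_iff.1 h
  have h1 : s ^ p = (r ^ p) ^ (1 + p * j : ℤ) := by
    have h2 : s = r * (r ^ p) ^ j := by
      rw [hj, mul_inv_cancel_left]
    rw [h2, mul_pow, zpow_add, zpow_one, mul_comm (p : ℤ) j, zpow_mul, zpow_natCast]
  have h2 : IsCoprime (1 + p * j : ℤ) (Nat.card (Subgroup.zpowers (r ^ p)) : ℤ) := by
    rw [Nat.card_zpowers]
    obtain ⟨k, hk⟩ := IsPGroup.iff_orderOf.1 hD (r ^ p)
    rw [hk]
    push_cast
    refine IsCoprime.pow_right ⟨1, -j, by ring⟩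
  apply le_antisymm
  · rw [Subgroup.zpowers_le, h1]
    exact Subgroup.zpow_mem_zpowers _ _
  · rw [Subgroup.zpowers_le, h1]
    obtain ⟨a, b, hb⟩ := h2
    rw [Nat.card_zpowers] at hb
    refine Subgroup.mem_zpowers_iff.2 ⟨a, ?_⟩
    rw [← zpow_mul]
    have h3 : (1 + p * j : ℤ) * a = 1 - (orderOf (r ^ p) : ℤ) * b := by
      linear_combination hb
    rw [h3, zpow_sub, zpow_one, zpow_mul, zpow_natCast, pow_orderOf_eq_one, one_zpow, inv_one, mul_one]

theorem pow_eq_one_iff' {D : Type*} [CommGroup D] [Finite D] (hD : IsPGroup p D) {r s : D} (h : r⁻¹ * s ∈ Subgroup.zpowers (r ^ p)) :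
    s ^ p = 1 ↔ r ^ p = 1 := by
  rw [← Subgroup.zpowers_eq_bot, zpowers_eq hD h, Subgroup.zpowers_eq_bot]

omit hp in
theorem exists_pow_form {D : Type*} [CommGroup D] [Finite D] {r s : D} (h : s ∈ Subgroup.zpowers (r ^ p)) :
    ∃ j : ℕ, r * s = r ^ (1 + p * j) := by
  obtain ⟨j, hj⟩ := (Submonoid.mem_powers_iff _ _).1 (mem_powers_iff_mem_zpowers.2 h)
  exact ⟨j, by rw [← hj, pow_add, pow_one, pow_mul]⟩

/-- the equivalence relation -/
def sto {D : Type*} [CommGroup D] [Finite D] (hD : IsPGroup p D) : Setoid D where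
  r r s := r⁻¹ * s ∈ Subgroup.zpowers (r ^ p)
  iseqv :=
    { refl := fun r => by
        rw [inv_mul_cancel]
        exact Subgroup.one_mem _
      symm := fun {r s} h => by
        rw [zpowers_eq hD h]
        have h1 := Subgroup.inv_mem _ h
        rwa [_root_.mul_inv_rev, inv_inv] at h1
      trans := fun {r s t} h1 h2 => by
        rw [zpowers_eq hD h1] at h2
        have h3 := Subgroup.mul_mem _ h1 h2
        rwa [mul_assoc, mul_inv_cancel_left] at h3 }

variable {M : Ideal AlgInt} [hMp : M.IsPrime]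

/-- the partition lemma -/
theorem sum_PR {D : Type*} [CommGroup D] [Fintype D] (hD : IsPGroup p D) {F : D → ℂ}
    (h : ∀ r : D, PR p M (∑ s ∈ (Finset.univ : Finset (Subgroup.zpowers (r ^ p))), F (r * s))) : PR p M (∑ r : D, F r) := by
  classical
  rw [← Finset.sum_fiberwise_of_maps_to (s := Finset.univ) (t := Finset.univ)
    (g := fun i => (Quotient.mk (sto hD) i)) (fun i _ => Finset.mem_univ _)]
  refine PR.sum fun q _ => ?_
  induction q using Quotient.inductionOn with
  | h r =>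
    have h0 : ∀ s ∈ Finset.univ.filter (fun i => (Quotient.mk (sto hD) i) = Quotient.mk _ r), r⁻¹ * s ∈ Subgroup.zpowers (r ^ p) := by
      intro s hs
      rw [Finset.mem_filter] at hs
      exact Quotient.exact hs.2.symm
    convert h r using 1
    refine Finset.sum_bij' (i := fun s hs => (⟨r⁻¹ * s, h0 s hs⟩ : Subgroup.zpowers (r ^ p))) (j := fun s _ => r * s)
      (fun s hs => Finset.mem_univ _) (fun s _ => ?_) (fun s hs => ?_) (fun s _ => ?_) fun s hs => ?_
    · rw [Finset.mem_filter]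
      refine ⟨Finset.mem_univ _, (Quotient.sound ?_).symm⟩
      change r⁻¹ * (r * s) ∈ Subgroup.zpowers (r ^ p)
      rw [inv_mul_cancel_left]
      exact s.2
    · change r * (r⁻¹ * s) = s
      rw [mul_inv_cancel_left]
    · apply Subtype.ext
      change r⁻¹ * (r * s) = s
      rw [inv_mul_cancel_left]
    · change F s = F (r * (r⁻¹ * s))
      rw [mul_inv_cancel_left]

open scoped Classical in
/-- the part outside the exponent `p` -/
theorem class_PR {D : Type*} [CommGroup D] [Fintype D] (hD : IsPGroup p D) (c : D → ℂ) (hc : ∀ (r : D) (j : ℕ), c (r ^ (1 + p * j)) = c r)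
    (hcR : ∀ r, MemLocalRing M (c r)) (e : D →* ℂˣ) (heR : ∀ r, MemLocalRing M (e r : ℂ)) :
    PR p M (∑ r : D, if r ^ p = 1 then 0 else c r * (e r : ℂ)) := by
  refine sum_PR hD fun r => ?_
  have h4 : ∀ s : Subgroup.zpowers (r ^ p), ((r * s : D) ^ p = 1 ↔ r ^ p = 1) := fun s =>
    pow_eq_one_iff' hD (r := r) (s := r * s) (by
      rw [inv_mul_cancel_left]
      exact s.2)
  have h6 : ∀ s : Subgroup.zpowers (r ^ p), c (r * s : D) = c r := by
    intro s
    obtain ⟨j, h7⟩ := exists_pow_form s.2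
    rw [h7, hc]
  by_cases hr : r ^ p = 1
  · rw [Finset.sum_congr rfl fun s _ => if_pos ((h4 s).2 hr), Finset.sum_const_zero]
    exact PR.zero
  · rw [Finset.sum_congr rfl fun s _ => if_neg (fun h => hr ((h4 s).1 h))]
    have h7 : ∀ s : Subgroup.zpowers (r ^ p), c (r * s : D) * (e (r * s : D) : ℂ) = (c r * (e r : ℂ)) * (e s : ℂ) := by
      intro s
      rw [h6, map_mul, Units.val_mul, mul_assoc]
    rw [Finset.sum_congr rfl fun s _ => h7 s, ← Finset.mul_sum]
    refine PR.mul (memLocalRing_mul (hcR r) (heR r)) ?_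
    rcases sum_subgroup (Subgroup.zpowers (r ^ p)) e with h8 | h8
    · rw [h8]
      exact PR.zero
    · rw [h8]
      have h9 : p ∣ Fintype.card (Subgroup.zpowers (r ^ p)) := by
        rw [← Nat.card_eq_fintype_card, Nat.card_zpowers]
        obtain ⟨k, hk⟩ := IsPGroup.iff_orderOf.1 hD (r ^ p)
        rw [hk]
        refine dvd_pow_self p fun h0 => hr ?_
        rw [h0, pow_zero] at hk
        exact orderOf_eq_one_iff.1 hk
      have h10 := PR.of_dvd (M := M) (p := p) (n := (Fintype.card (Subgroup.zpowers (r ^ p)) : ℤ)) (by exact_mod_cast h9)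
      rwa [Int.cast_natCast] at h10

omit hMp in
theorem isPGroup_dual (hA : IsPGroup p A) : IsPGroup p (A →* ℂˣ) := by
  obtain ⟨n, hn⟩ := IsPGroup.iff_card.1 hA
  intro r
  refine ⟨n, ?_⟩
  ext x
  rw [← hn, MonoidHom.pow_apply, ← map_pow, pow_card_eq_one', map_one]
  rfl

/-- **The `J`-invariant case.** -/
theorem dual_PR (hab : ∀ a b : A, a * b = b * a) (hA : IsPGroup p A) [Fintype (LL p A)] {φ : A → ℂ}
    (hφ : IsGeneralizedCharacter A φ) (hJ : ∀ k : ℕ, k ≡ 1 [MOD p] → ∀ x, φ (x ^ k) = φ x) (hR : ∀ x, PR p M (φ x)) (x : A) :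
    PR p M (∑ l : LL p A, (mi φ l : ℂ) * ch l x) := by
  classical
  have hfin : Finite (A →* ℂˣ) := inferInstance
  have := Fintype.ofFinite (A →* ℂˣ)
  have hD := isPGroup_dual (p := p) hA
  have h1 := expansion hab φ x
  -- the part of exponent `p`
  have h2 : ∑ l : LL p A, (mi φ l : ℂ) * ch l x =
      ∑ r : A →* ℂˣ, if r ^ p = 1 then ipc φ (fun y => (r y : ℂ)) * (r x : ℂ) else 0 := by
    rw [← Finset.sum_filter]
    refine Finset.sum_bij (fun l _ => chU l) (fun l _ => ?_) (fun l _ m _ h => chU_injective h) (fun r hr => ?_) fun l _ => ?_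
    · rw [Finset.mem_filter]
      exact ⟨Finset.mem_univ _, chU_pow l⟩
    · rw [Finset.mem_filter] at hr
      obtain ⟨l, hl⟩ := exists_chU hr.2
      exact ⟨l, Finset.mem_univ _, hl⟩
    · rw [mi_spec hφ]
      rfl
  have h3 : PR p M (∑ r : A →* ℂˣ, if r ^ p = 1 then 0 else ipc φ (fun y => (r y : ℂ)) * (r x : ℂ)) := by
    refine class_PR hD (fun r => ipc φ (fun y => (r y : ℂ))) (fun r j => ?_) (fun r => ?_) (MonoidHom.eval x) fun r => ?_
    · have h8 : 1 + p * j ≡ 1 [MOD p] := by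
        simp [Nat.ModEq]
      refine ipc_pow ?_ (hJ _ h8) r
      obtain ⟨n, hn⟩ := IsPGroup.iff_card.1 hA
      rw [hn]
      refine Nat.Coprime.pow_right _ ?_
      rw [Nat.coprime_add_mul_left_left]
      exact Nat.coprime_one_left _
    · obtain ⟨n, hn⟩ := ipc_isInt hφ (Linear.isCharacter_hom r)
      rw [hn]
      exact memLocalRing_intCast n
    · refine memLocalRing_of_isIntegral ?_
      have h8 : ((r x : ℂˣ) : ℂ) ^ Nat.card A = 1 := by
        rw [← Units.val_pow_eq_pow_val, ← map_pow, pow_card_eq_one', map_one]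
        rfl
      exact IsIntegral.of_pow Nat.card_pos (by
        change IsIntegral ℤ (((r x : ℂˣ) : ℂ) ^ Nat.card A)
        rw [h8]
        exact isIntegral_one)
  have h4 : φ x = (∑ l : LL p A, (mi φ l : ℂ) * ch l x) +
      ∑ r : A →* ℂˣ, if r ^ p = 1 then 0 else ipc φ (fun y => (r y : ℂ)) * (r x : ℂ) := by
    rw [h2, ← Finset.sum_add_distrib, h1]
    refine Finset.sum_congr rfl fun r _ => ?_
    split_ifs
    · rw [add_zero]
    · rw [zero_add]
  have h5 := (hR x).sub h3
  rwa [h4, add_sub_cancel_right] at h5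

end Cfsg.Agent.H603.AP
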