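import Cfsg.Agent.Blocks.PrincipalConst
import Mathlib.NumberTheory.LegendreSymbol.AddCharacter
import Mathlib.Analysis.SpecialFunctions.Complex.CircleAddChar

/-!
# Moments of the linear characters of exponent `p` (helper603, for S4791 + S4927)

`A` a finite group, `LL p A = A →* Multiplicative (ZMod p)`, `ch l : A → ℂ` the linear character of `l`.

* `PR p M z` : `z ∈ p R`, `R` the local ring at `M`.
* `moment` : if `∑_l a_l ch l x ∈ p R` for all `x : A` then `∑_l a_l ∏_{y ∈ xs} l y = 0` in `ZMod p` for every list `xs` of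
  length at most `p - 2`.
* `PolSp p A k` : the span of the products of `k` evaluations; `moment_pol`.
-/

set_option autoImplicit false

open scoped ComplexConjugate

namespace Cfsg.Agent.H603.AP

open Cfsg
open Cfsg.Agent.Blocks Cfsg.Agent.Blocks.Local

universe u

/-! ### the ideal `p R` -/

/-- `z ∈ p R` -/
def PR (p : ℕ) (M : Ideal AlgInt) (z : ℂ) : Prop := ∃ r : ℂ, MemLocalRing M r ∧ z = p * r

section PR

variable {p : ℕ} {M : Ideal AlgInt} [hMp : M.IsPrime]

omit hMp in
theorem PR.mk {r : ℂ} (h : MemLocalRing M r) : PR p M (p * r) := ⟨r, h, rfl⟩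

theorem PR.add {z w : ℂ} (hz : PR p M z) (hw : PR p M w) : PR p M (z + w) := by
  obtain ⟨r, h1, rfl⟩ := hz
  obtain ⟨s, h2, rfl⟩ := hw
  exact ⟨r + s, memLocalRing_add h1 h2, by ring⟩

theorem PR.zero : PR p M 0 := ⟨0, memLocalRing_zero, by ring⟩

theorem PR.neg {z : ℂ} (hz : PR p M z) : PR p M (-z) := by
  obtain ⟨r, h1, rfl⟩ := hz
  exact ⟨-r, memLocalRing_neg h1, by ring⟩

theorem PR.sub {z w : ℂ} (hz : PR p M z) (hw : PR p M w) : PR p M (z - w) := by
  rw [sub_eq_add_neg]
  exact hz.add hw.neg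

theorem PR.mul {z w : ℂ} (hz : MemLocalRing M z) (hw : PR p M w) : PR p M (z * w) := by
  obtain ⟨r, h1, rfl⟩ := hw
  exact ⟨z * r, memLocalRing_mul hz h1, by ring⟩

theorem PR.sum {ι : Type*} {s : Finset ι} {f : ι → ℂ} (h : ∀ i ∈ s, PR p M (f i)) : PR p M (∑ i ∈ s, f i) := by
  classical
  induction s using Finset.induction_on with
  | empty => simpa using PR.zero
  | insert i s hi ih =>
    rw [Finset.sum_insert hi]
    exact (h i (Finset.mem_insert_self _ _)).add (ih fun j hj => h j (Finset.mem_insert_of_mem hj))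

theorem PR.of_dvd {n : ℤ} (h : (p : ℤ) ∣ n) : PR p M (n : ℂ) := by
  obtain ⟨m, rfl⟩ := h
  exact ⟨m, memLocalRing_intCast m, by push_cast; ring⟩

theorem PR.memLocalIdeal (hM : IsPModular p M) {z : ℂ} (h : PR p M z) : MemLocalIdeal M z := by
  obtain ⟨r, h1, rfl⟩ := h
  exact memLocalIdeal_mul_right (memLocalIdeal_p hM) h1

end PR

/-! ### the root of unity -/

section zeta

variable (p : ℕ) [hp : Fact p.Prime]

/-- the standard root of unity -/
noncomputable def zt : ℂ := ZMod.stdAddChar (N := p) 1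

theorem std_eq_pow (t : ZMod p) : ZMod.stdAddChar (N := p) t = zt p ^ t.val := by
  unfold zt
  rw [← AddChar.map_nsmul_eq_pow, nsmul_eq_mul, mul_one, ZMod.natCast_zmod_val]

theorem zt_pow : zt p ^ p = 1 := by
  unfold zt
  rw [← AddChar.map_nsmul_eq_pow, nsmul_eq_mul, mul_one, ZMod.natCast_self, AddChar.map_zero_eq_one]

theorem zt_ne : zt p ≠ 1 := by
  intro h
  unfold zt at h
  rw [← AddChar.map_zero_eq_one (ZMod.stdAddChar (N := p))] at h
  exact one_ne_zero (ZMod.injective_stdAddChar h)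

theorem zt_prim : IsPrimitiveRoot (zt p) p :=
  IsPrimitiveRoot.iff_orderOf.2 (orderOf_eq_prime (zt_pow p) (zt_ne p))

theorem zt_int : IsIntegral ℤ (zt p) := (zt_prim p).isIntegral hp.out.pos

/-- the quotient `(z ^ t - 1) / (z - 1)` -/
noncomputable def qz (t : ZMod p) : ℂ := ∑ j ∈ Finset.range t.val, zt p ^ j

theorem qz_mul (t : ZMod p) : (zt p - 1) * qz p t = ZMod.stdAddChar (N := p) t - 1 := by
  rw [std_eq_pow, qz, mul_comm, geom_sum_mul]

theorem qz_int (t : ZMod p) : IsIntegral ℤ (qz p t) := IsIntegral.sum _ fun j _ => (zt_int p).pow j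

/-- `p = (z - 1) ^ (p - 1) v` -/
theorem exists_p_eq : ∃ v : ℂ, IsIntegral ℤ v ∧ (p : ℂ) = (zt p - 1) ^ (p - 1) * v := by
  have h1 := Polynomial.eval_one_cyclotomic_prime (R := ℂ) (p := p)
  have h2 := Polynomial.cyclotomic_eq_prod_X_sub_primitiveRoots (zt_prim p)
  rw [h2, Polynomial.eval_prod] at h1
  have h3 : ∀ μ ∈ primitiveRoots p ℂ, ∃ w : ℂ, IsIntegral ℤ w ∧ Polynomial.eval 1 (Polynomial.X - Polynomial.C μ) =
      (zt p - 1) * w := by
    intro μ hμ
    have hμ1 := (mem_primitiveRoots hp.out.pos).1 hμ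
    obtain ⟨j, -, hj⟩ := (zt_prim p).eq_pow_of_pow_eq_one hμ1.pow_eq_one
    refine ⟨-∑ i ∈ Finset.range j, zt p ^ i, (IsIntegral.sum _ fun i _ => (zt_int p).pow i).neg, ?_⟩
    rw [Polynomial.eval_sub, Polynomial.eval_X, Polynomial.eval_C, ← hj, mul_neg, mul_comm, geom_sum_mul]
    ring
  choose w hw1 hw2 using h3
  refine ⟨∏ μ ∈ (primitiveRoots p ℂ).attach, w μ.1 μ.2, IsIntegral.prod _ fun μ _ => hw1 μ.1 μ.2, ?_⟩
  rw [← h1, ← Finset.prod_attach]
  rw [Finset.prod_congr rfl fun μ _ => hw2 μ.1 μ.2, Finset.prod_mul_distrib, Finset.prod_const, Finset.card_attach,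
    (zt_prim p).card_primitiveRoots, Nat.totient_prime hp.out]

variable {p} {M : Ideal AlgInt}

theorem zt_sub_mem [hMp : M.IsPrime] (hM : IsPModular p M) : MemLocalIdeal M (zt p - 1) :=
  PrincipalConst.memLocalIdeal_sub_one_of_pow_eq_one hM (zt_pow p)

theorem qz_sub_mem [hMp : M.IsPrime] (hM : IsPModular p M) (t : ZMod p) : MemLocalIdeal M (qz p t - (t.val : ℂ)) := by
  have h1 : qz p t - (t.val : ℂ) = ∑ j ∈ Finset.range t.val, (zt p ^ j - 1 ^ j) := by
    rw [qz, Finset.sum_sub_distrib]
    simp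
  rw [h1]
  refine memLocalIdeal_sum fun j _ => ?_
  exact memLocalIdeal_pow_sub_pow (memLocalRing_of_isIntegral (zt_int p)) memLocalRing_one (zt_sub_mem hM) j

end zeta

/-! ### the linear characters of exponent `p` -/

/-- the linear characters of exponent `p`, written additively -/
abbrev LL (p : ℕ) (A : Type u) [Group A] := A →* Multiplicative (ZMod p)

/-- the value -/
def ev {p : ℕ} {A : Type u} [Group A] (l : LL p A) (x : A) : ZMod p := Multiplicative.toAdd (l x)

/-- the linear character -/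
noncomputable def ch {p : ℕ} [Fact p.Prime] {A : Type u} [Group A] (l : LL p A) (x : A) : ℂ := ZMod.stdAddChar (N := p) (ev l x)

section ch

variable {p : ℕ} {A : Type u} [Group A]

theorem ev_mul (l : LL p A) (x y : A) : ev l (x * y) = ev l x + ev l y := by
  unfold ev
  rw [map_mul, toAdd_mul]

theorem ev_one (l : LL p A) : ev l 1 = 0 := by
  unfold ev
  rw [map_one, toAdd_one]

theorem ev_pow (l : LL p A) (x : A) (n : ℕ) : ev l (x ^ n) = n * ev l x := by
  unfold ev
  rw [map_pow, toAdd_pow, nsmul_eq_mul]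

theorem ev_ext {l m : LL p A} (h : ∀ x, ev l x = ev m x) : l = m := by
  ext x
  exact h x

variable [hp : Fact p.Prime]

theorem ch_mul (l : LL p A) (x y : A) : ch l (x * y) = ch l x * ch l y := by
  unfold ch
  rw [ev_mul, AddChar.map_add_eq_mul]

theorem ch_one (l : LL p A) : ch l (1 : A) = 1 := by
  unfold ch
  rw [ev_one, AddChar.map_zero_eq_one]

theorem ch_sub_one (l : LL p A) (x : A) : ch l x - 1 = (zt p - 1) * qz p (ev l x) := (qz_mul p _).symm

theorem finite_LL [Finite A] : Finite (LL p A) := by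
  have : Finite (Multiplicative (ZMod p)) := inferInstanceAs (Finite (ZMod p))
  exact Finite.of_injective (fun l : LL p A => (l : A → Multiplicative (ZMod p))) DFunLike.coe_injective

variable {M : Ideal AlgInt} [hMp : M.IsPrime] [Fintype (LL p A)]

/-- the expansion -/
theorem expand {c : LL p A → ℂ} (h : ∀ x : A, PR p M (∑ l, c l * ch l x)) (xs : List A) :
    PR p M (∑ l, c l * (xs.map fun y => ch l y - 1).prod) := by
  suffices h1 : ∀ x : A, PR p M (∑ l, c l * (xs.map fun y => ch l y - 1).prod * ch l x) by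
    have h2 := h1 1
    simpa [ch_one] using h2
  induction xs generalizing c with
  | nil => simpa using h
  | cons y xs ih =>
    intro x
    have h1 := ih (c := fun l => c l * (ch l y - 1)) (fun z => by
      have h3 := (h (y * z)).sub (h z)
      rw [← Finset.sum_sub_distrib] at h3
      convert h3 using 2 with l
      rw [ch_mul]
      ring) x
    convert h1 using 2 with l
    rw [List.map_cons, List.prod_cons]
    ring

omit hMp [Fintype (LL p A)] in
theorem prod_eq (l : LL p A) (xs : List A) :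
    (xs.map fun y => ch l y - 1).prod = (zt p - 1) ^ xs.length * (xs.map fun y => qz p (ev l y)).prod := by
  induction xs with
  | nil => simp
  | cons y xs ih =>
    rw [List.map_cons, List.prod_cons, ih, List.map_cons, List.prod_cons, List.length_cons, ch_sub_one, pow_succ]
    ring

omit [Fintype (LL p A)] in
theorem prod_sub_mem (hM : IsPModular p M) (l : LL p A) (xs : List A) :
    MemLocalIdeal M ((xs.map fun y => qz p (ev l y)).prod - (((xs.map fun y => (ev l y).val).prod : ℕ) : ℂ)) := by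
  induction xs with
  | nil =>
    simp only [List.map_nil, List.prod_nil, Nat.cast_one, sub_self]
    exact memLocalIdeal_zero
  | cons y xs ih =>
    rw [List.map_cons, List.prod_cons, List.map_cons, List.prod_cons, Nat.cast_mul]
    exact memLocalIdeal_mul_sub_mul (memLocalRing_of_isIntegral (qz_int p _)) (memLocalRing_natCast _) (qz_sub_mem hM _) ih

/-- **The moment lemma.** -/
theorem moment (hM : IsPModular p M) {a : LL p A → ℤ} (h : ∀ x : A, PR p M (∑ l, (a l : ℂ) * ch l x)) (xs : List A)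
    (hxs : xs.length + 2 ≤ p) : ∑ l, (a l : ZMod p) * (xs.map fun y => ev l y).prod = 0 := by
  have h1 := expand h xs
  have h2 : ∑ l, (a l : ℂ) * (xs.map fun y => ch l y - 1).prod =
      (zt p - 1) ^ xs.length * ∑ l, (a l : ℂ) * (xs.map fun y => qz p (ev l y)).prod := by
    rw [Finset.mul_sum]
    refine Finset.sum_congr rfl fun l _ => ?_
    rw [prod_eq]
    ring
  obtain ⟨r, hr1, hr2⟩ := h1
  obtain ⟨v, hv1, hv2⟩ := exists_p_eq p
  have hz0 : zt p - 1 ≠ 0 := sub_ne_zero.2 (zt_ne p)
  have hzi : MemLocalRing M (zt p - 1) := memLocalRing_of_isIntegral ((zt_int p).sub isIntegral_one)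
  have h3 : ∑ l, (a l : ℂ) * (xs.map fun y => qz p (ev l y)).prod = (zt p - 1) ^ (p - 1 - xs.length) * (v * r) := by
    have h4 : (zt p - 1) ^ xs.length * ∑ l, (a l : ℂ) * (xs.map fun y => qz p (ev l y)).prod =
        (zt p - 1) ^ xs.length * ((zt p - 1) ^ (p - 1 - xs.length) * (v * r)) := by
      rw [← h2, hr2, hv2, ← mul_assoc, ← pow_add, Nat.add_sub_cancel' (by omega)]
      ring
    exact mul_left_cancel₀ (pow_ne_zero _ hz0) h4
  have h4 : MemLocalIdeal M (∑ l, (a l : ℂ) * (xs.map fun y => qz p (ev l y)).prod) := by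
    rw [h3]
    exact memLocalIdeal_mul_right (memLocalIdeal_pow (zt_sub_mem hM) (by omega))
      (memLocalRing_mul (memLocalRing_of_isIntegral hv1) hr1)
  have h5 : MemLocalIdeal M (((∑ l, a l * ((xs.map fun y => (ev l y).val).prod : ℕ) : ℤ)) : ℂ) := by
    have h6 : MemLocalIdeal M (∑ l, (a l : ℂ) * (xs.map fun y => qz p (ev l y)).prod -
        (((∑ l, a l * ((xs.map fun y => (ev l y).val).prod : ℕ) : ℤ)) : ℂ)) := by
      rw [Int.cast_sum, ← Finset.sum_sub_distrib]
      refine memLocalIdeal_sum fun l _ => ?_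
      rw [Int.cast_mul, ← mul_sub]
      have h7 := prod_sub_mem hM l xs
      refine memLocalIdeal_mul_left (memLocalRing_intCast _) ?_
      rwa [Int.cast_natCast]
    have h7 := memLocalIdeal_sub h4 h6
    rwa [sub_sub_cancel] at h7
  have h6 := (memLocalIdeal_intCast_iff hM _).1 h5
  have h7 := (ZMod.intCast_zmod_eq_zero_iff_dvd _ p).2 h6
  rw [← h7, Int.cast_sum]
  refine Finset.sum_congr rfl fun l _ => ?_
  rw [Int.cast_mul, Int.cast_natCast, Nat.cast_list_prod, List.map_map]
  congr 2
  refine List.map_congr_left fun y _ => ?_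
  simp

end ch

end Cfsg.Agent.H603.AP
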